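import Cfsg.Agent.AltE6.Common

/-!
Fixed dimensions of the elements of an elementary abelian group of order prime to the characteristic.
-/

set_option autoImplicit false

namespace CfsgLib.E7Sections

open Module

/-- The pairing of two vectors. -/
def pr {ℓ d : ℕ} (e w : Fin d → ZMod ℓ) : ZMod ℓ := ∑ i, e i * w i

variable {K V : Type*} [Field K] [AddCommGroup V] [Module K V] [FiniteDimensional K V]
  {ℓ d : ℕ} [Fact ℓ.Prime]

/-- The character of a weight. -/
def chw (ζ : K) (w e : Fin d → ZMod ℓ) : K := ζ ^ (pr e w).val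

variable {ζ : K} (hζ : IsPrimitiveRoot ζ ℓ)

include hζ in
theorem pow_add_val (x y : ZMod ℓ) : ζ ^ (x + y).val = ζ ^ x.val * ζ ^ y.val := by
  rw [← pow_add, ZMod.val_add]
  exact (pow_eq_pow_mod _ hζ.pow_eq_one).symm

include hζ in
theorem chw_add (w e f : Fin d → ZMod ℓ) : chw ζ w (e + f) = chw ζ w e * chw ζ w f := by
  rw [chw, chw, chw, ← pow_add_val hζ]
  congr 2
  simp [pr, add_mul, Finset.sum_add_distrib]

theorem chw_zero_left (w : Fin d → ZMod ℓ) : chw ζ w 0 = 1 := by simp [chw, pr]

include hζ in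
theorem chw_sum (e : Fin d → ZMod ℓ) :
    ∑ w, chw ζ w e = if e = 0 then (ℓ : K) ^ d else 0 := by
  classical
  split_ifs with h
  · subst h
    simp [chw_zero_left, Finset.card_univ]
  obtain ⟨i, hi⟩ : ∃ i, e i ≠ 0 := by
    by_contra hall
    push Not at hall
    exact h (funext hall)
  set w₀ : Fin d → ZMod ℓ := Pi.single i 1
  have hadd : ∀ w, chw ζ (w₀ + w) e = ζ ^ (e i).val * chw ζ w e := fun w => by
    rw [chw, chw, ← pow_add_val hζ]
    congr 2
    simp [pr, w₀, mul_add, Finset.sum_add_distrib, Pi.single_apply]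
  have hs : ∑ w, chw ζ w e = ζ ^ (e i).val * ∑ w, chw ζ w e := by
    rw [Finset.mul_sum, ← Equiv.sum_comp (Equiv.addLeft w₀) fun w => chw ζ w e]
    exact Finset.sum_congr rfl fun w _ => hadd w
  have h1 : (ζ ^ (e i).val - 1) * ∑ w, chw ζ w e = 0 := by rw [sub_mul, one_mul, ← hs, sub_self]
  refine (mul_eq_zero.mp h1).resolve_left (sub_ne_zero.mpr fun h1 => hi ?_)
  exact AltSection.pow_val_inj hζ (h1.trans (by simp))

variable (P : Multiplicative (Fin d → ZMod ℓ) →* Module.End K V)

/-- The weight space. -/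
def wsp (ζ : K) (w : Fin d → ZMod ℓ) : Submodule K V :=
  ⨅ e : Fin d → ZMod ℓ, LinearMap.ker (P (Multiplicative.ofAdd e) - chw ζ w e • 1)

omit [FiniteDimensional K V] in
theorem mem_wsp {w : Fin d → ZMod ℓ} {v : V} :
    v ∈ wsp P ζ w ↔ ∀ e, P (Multiplicative.ofAdd e) v = chw ζ w e • v := by
  simp [wsp, Submodule.mem_iInf, sub_eq_zero]

/-- The fixed space of an element. -/
def fixSp (e : Fin d → ZMod ℓ) : Submodule K V := LinearMap.ker (P (Multiplicative.ofAdd e) - 1)

/-- The projection on a weight space. -/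
def prj (ζ : K) (w : Fin d → ZMod ℓ) : Module.End K V :=
  ((ℓ : K) ^ d)⁻¹ • ∑ f : Fin d → ZMod ℓ, chw ζ w (-f) • P (Multiplicative.ofAdd f)

include hζ in
omit [FiniteDimensional K V] in
theorem prj_mem (w : Fin d → ZMod ℓ) (v : V) : prj P ζ w v ∈ wsp P ζ w := by
  rw [mem_wsp]
  intro e
  simp only [prj, LinearMap.smul_apply, LinearMap.sum_apply, map_smul, map_sum]
  rw [smul_comm (chw ζ w e)]
  congr 1
  rw [Finset.smul_sum, ← Equiv.sum_comp (Equiv.addLeft e)
    fun f => chw ζ w e • chw ζ w (-f) • P (Multiplicative.ofAdd f) v]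
  refine Finset.sum_congr rfl fun f _ => ?_
  rw [Equiv.coe_addLeft, smul_smul, ← chw_add hζ, show e + -(e + f) = -f by abel, ofAdd_add,
    map_mul, Module.End.mul_apply]

include hζ in
omit [FiniteDimensional K V] in
theorem sum_prj (hℓK : (ℓ : K) ≠ 0) (v : V) : ∑ w, prj P ζ w v = v := by
  simp only [prj, LinearMap.smul_apply, LinearMap.sum_apply]
  rw [← Finset.smul_sum, Finset.sum_comm]
  simp only [← Finset.sum_smul, chw_sum hζ, neg_eq_zero, ite_smul, zero_smul, Finset.sum_ite_eq',
    Finset.mem_univ, if_true, ofAdd_zero, map_one, Module.End.one_apply]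
  rw [smul_smul, inv_mul_cancel₀ (pow_ne_zero _ hℓK), one_smul]

include hζ in
omit [FiniteDimensional K V] in
theorem prj_fix {w : Fin d → ZMod ℓ} {e : Fin d → ZMod ℓ} (hne : pr e w ≠ 0) {v : V}
    (hv : v ∈ fixSp P e) : prj P ζ w v = 0 := by
  have hv' : P (Multiplicative.ofAdd e) v = v := by
    rwa [fixSp, LinearMap.mem_ker, LinearMap.sub_apply, Module.End.one_apply, sub_eq_zero] at hv
  have h1 : P (Multiplicative.ofAdd e) (prj P ζ w v) = prj P ζ w v := by
    simp only [prj, LinearMap.smul_apply, LinearMap.sum_apply, map_smul, map_sum]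
    refine congrArg _ (Finset.sum_congr rfl fun f _ => ?_)
    rw [← Module.End.mul_apply, ← map_mul, mul_comm, map_mul, Module.End.mul_apply, hv']
  rw [(mem_wsp P).mp (prj_mem hζ P w v) e] at h1
  have h2 : (chw ζ w e - 1) • prj P ζ w v = 0 := by rw [sub_smul, h1, one_smul, sub_self]
  exact (smul_eq_zero.mp h2).resolve_left
    (sub_ne_zero.mpr fun h => hne (AltSection.pow_val_inj hζ (h.trans (by simp))))

include hζ in
/-- The fixed dimension as a sum over the weights. -/
theorem finrank_fix (hℓK : (ℓ : K) ≠ 0) (e : Fin d → ZMod ℓ) :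
    finrank K (fixSp P e) = ∑ w with pr e w = 0, finrank K (wsp P ζ w) := by
  classical
  set S := Finset.univ.filter fun w : Fin d → ZMod ℓ => pr e w = 0
  let φ : (∀ w : S, wsp P ζ w.1) →ₗ[K] V :=
    ∑ w : S, (wsp P ζ w.1).subtype.comp (LinearMap.proj w)
  have hφ : ∀ u, φ u = ∑ w : S, ((u w : wsp P ζ w.1) : V) := fun u => by simp [φ]
  have hrange : LinearMap.range φ = fixSp P e := by
    refine le_antisymm ?_ ?_
    · rintro _ ⟨u, rfl⟩
      rw [hφ]
      refine Submodule.sum_mem _ fun w _ => ?_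
      have h := (mem_wsp P).mp (u w).2 e
      rw [show chw ζ w.1 e = 1 by simp [chw, (Finset.mem_filter.mp w.2).2], one_smul] at h
      rw [fixSp, LinearMap.mem_ker, LinearMap.sub_apply, Module.End.one_apply, h, sub_self]
    · intro v hv
      refine ⟨fun w => ⟨prj P ζ w.1 v, prj_mem hζ P _ v⟩, ?_⟩
      rw [hφ, Finset.sum_coe_sort S fun w => prj P ζ w v]
      conv_rhs => rw [← sum_prj hζ P hℓK v]
      exact Finset.sum_subset (Finset.subset_univ _) fun w _ hw =>
        prj_fix hζ P (fun h => hw (Finset.mem_filter.mpr ⟨Finset.mem_univ _, h⟩)) hv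
  have hinj : Function.Injective φ := by
    rw [← LinearMap.ker_eq_bot, LinearMap.ker_eq_bot']
    intro u hu
    rw [hφ] at hu
    have h0 := AltE6.eigen_sum_zero (fun f : Fin d → ZMod ℓ => P (Multiplicative.ofAdd f))
      (fun w : S => chw ζ w.1) (fun w w' h => Subtype.ext (funext fun i => by
        have h1 := AltSection.pow_val_inj hζ (congrFun h (Pi.single i 1))
        simpa [pr, Pi.single_apply] using h1))
      (fun w : S => ((u w : wsp P ζ w.1) : V)) (fun w f => (mem_wsp P).mp (u w).2 f) hu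
    exact funext fun w => Subtype.ext (h0 w)
  rw [← hrange, LinearMap.finrank_range_of_inj hinj, Module.finrank_pi_fintype,
    Finset.sum_coe_sort S fun w => finrank K (wsp P ζ w)]

include hζ in
/-- The counting identity over a list of elements meeting every nonzero weight equally often. -/
theorem fix_count (hℓK : (ℓ : K) ≠ 0) (Ls : List (Fin d → ZMod ℓ)) (c : ℕ)
    (hc : ∀ w : Fin d → ZMod ℓ, w ≠ 0 → Ls.countP (fun e => decide (pr e w = 0)) = c) :
    ∃ f₀, f₀ ≤ finrank K V ∧
      (Ls.map fun e => finrank K (fixSp P e)).sum = f₀ * Ls.length + (finrank K V - f₀) * c := by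
  classical
  set m := fun w : Fin d → ZMod ℓ => finrank K (wsp P ζ w)
  have htot : ∑ w, m w = finrank K V := by
    have h := finrank_fix hζ P hℓK 0
    rw [show fixSp P 0 = ⊤ by simp [fixSp], finrank_top,
      Finset.filter_true_of_mem (fun w _ => by simp [pr])] at h
    exact h.symm
  have hsum : ∀ Ls : List (Fin d → ZMod ℓ), (Ls.map fun e => finrank K (fixSp P e)).sum =
      ∑ w, m w * Ls.countP (fun e => decide (pr e w = 0)) := by
    intro Ls
    induction Ls with
    | nil => simp
    | cons e Ls ih =>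
      rw [List.map_cons, List.sum_cons, ih, finrank_fix hζ P hℓK, Finset.sum_filter,
        ← Finset.sum_add_distrib]
      refine Finset.sum_congr rfl fun w _ => ?_
      rw [List.countP_cons]
      by_cases h : pr e w = 0
      · simp [h, m, Nat.mul_add, add_comm]
      · simp [h]
  have hrest : ∑ w ∈ Finset.univ.erase (0 : Fin d → ZMod ℓ), m w = finrank K V - m 0 := by
    rw [← htot, ← Finset.add_sum_erase _ _ (Finset.mem_univ (0 : Fin d → ZMod ℓ)),
      Nat.add_sub_cancel_left]
  refine ⟨m 0, htot ▸ Finset.single_le_sum (fun w _ => Nat.zero_le (m w)) (Finset.mem_univ _), ?_⟩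
  rw [hsum, ← Finset.add_sum_erase _ _ (Finset.mem_univ (0 : Fin d → ZMod ℓ))]
  congr 1
  · congr 1
    exact List.countP_eq_length.mpr fun e _ => by simp [pr]
  · rw [← hrest, Finset.sum_mul]
    exact Finset.sum_congr rfl fun w hw => by rw [hc w (Finset.ne_of_mem_erase hw)]

/-- The seven-fold lines. -/
def lines7 : List (Fin 2 → ZMod 7) :=
  [![1, 0], ![0, 1], ![1, 1], ![1, 2], ![1, 3], ![1, 4], ![1, 5], ![1, 6]]

theorem lines7_count : ∀ w : Fin 2 → ZMod 7, w ≠ 0 →
    lines7.countP (fun e => decide (pr e w = 0)) = 1 := by decide +kernel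

/-- The five-fold lines. -/
def lines5 : List (Fin 3 → ZMod 5) :=
  [![0, 0, 1]] ++ ((List.range 5).map fun a => ![0, 1, (a : ZMod 5)]) ++
    (List.range 5).flatMap fun a => (List.range 5).map fun b => ![1, (a : ZMod 5), (b : ZMod 5)]

theorem lines5_count : ∀ w : Fin 3 → ZMod 5, w ≠ 0 →
    lines5.countP (fun e => decide (pr e w = 0)) = 6 := by decide +kernel

theorem lines5_length : lines5.length = 31 := by decide +kernel

end CfsgLib.E7Sections
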