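import Cfsg.Agent.ChevMult.CenterE7
import Cfsg.Agent.Chev.RootMap
import Cfsg.Agent.S1054

/-!
Sections of the group of type E₇ as sections of subgroups of `E₈` commuting with the root subgroups
of the highest root.
-/

set_option autoImplicit false
set_option linter.style.haveILetI false

namespace CfsgLib.E7Sections

open Cfsg.Lie CfsgLib.Chev CfsgLib.Chev.Tab CfsgLib.ChevMult

variable {K : Type} [Field K]

theorem io_commute : allBelow (fun r => E8Data.tab.chkCommute 0 239 (ioAt ioE7 r) &&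
    E8Data.tab.chkCommute 0 (negR chevE8 239) (ioAt ioE7 r)) chevE7.nroots = true := by
  decide +kernel

theorem io_facts : 93 < chevE7.nroots ∧ 73 < chevE7.nroots ∧
    ioAt ioE7 93 = 162 ∧ ioAt ioE7 73 = 135 ∧ (163 : ℕ) < chevE8.nroots ∧
    162 < chevE8.nroots ∧ 135 < chevE8.nroots ∧ (135 : ℕ) ≠ 162 ∧ 135 ≠ negR chevE8 162 ∧
    E8Data.tab.commT 162 135 = [(163, -1, 1, 1)] := by
  decide +kernel

theorem images_noncomm : ¬ Commute (good_E8.full.x 162 (1 : K)) (good_E8.full.x 135 1) := by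
  obtain ⟨-, -, -, -, h163, h162, h135, hne, hne', hc⟩ := io_facts
  intro h
  have e := good_E8.full.x_comm h162 h135 hne hne' (1 : K) 1
  rw [good_E8.full.cert.commWord_eq h162 h135, hc] at e
  simp only [rhsWord, List.map_cons, List.map_nil, List.prod_cons, List.prod_nil, mul_one,
    Int.cast_neg, Int.cast_one, pow_one, neg_mul_neg, one_mul] at e
  rw [h.eq] at e
  exact one_ne_zero (good_E8.x_eq_one h163 (mul_eq_left.1 e.symm))

/-- A section of `E₇(K)` is a section of a subgroup of `E₈(K)` commuting with the root subgroups of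
the highest root. -/
theorem exists_image {A : Type} [Group A] (H : Subgroup (chevE7.group K)) (π : H →* A)
    (hπ : Function.Surjective π) :
    ∃ (X : Subgroup (GL chevE8.Idx K)) (π' : X →* A), X ≤ chevE8.group K ∧
      Function.Surjective π' ∧
      (∀ x ∈ X, ∀ t : K, Commute x (good_E8.full.hr 239 t)) ∧
      ∀ x ∈ X, ∀ t : K, Commute x (good_E8.full.x 239 t) := by
  classical
  obtain ⟨ψ, hψ⟩ := exists_emb (F := K) good_E7 good_E8 embE7
  set θ := good_E7.scθ K
  let S := good_E7.scData θ (fun r t hr => good_E7.coe_scθ hr t)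
  have hθsurj : Function.Surjective θ := by
    rintro ⟨g, hg⟩
    rw [← S.θ_range] at hg
    obtain ⟨e, he⟩ := hg
    exact ⟨e, Subtype.ext he⟩
  obtain ⟨hsimple, -⟩ := Cfsg.Agent.S1054.result (F := K) chevE7 (by simp)
  obtain ⟨h93, h73, e93, e73, -⟩ := io_facts
  have hle : ψ.ker ≤ θ.ker := by
    rcases hsimple.eq_bot_or_eq_top_of_normal _ (Subgroup.Normal.map inferInstance θ hθsurj :
      (ψ.ker.map θ).Normal) with h | h
    · exact (Subgroup.map_eq_bot_iff _).1 h
    · exfalso
      refine images_noncomm (K := K) ?_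
      rw [← e93, ← e73, ← hψ _ h93, ← hψ _ h73]
      set a := chevE7.scGen K 93 (1 : K)
      obtain ⟨k, hk, hks⟩ : θ a ∈ ψ.ker.map θ := h ▸ Subgroup.mem_top _
      have hc : k⁻¹ * a ∈ Subgroup.center (chevE7.SteinbergCover K) :=
        S.ker_le_center ⟨_, wits_E7⟩ (show S.θ (k⁻¹ * a) = 1 by
          show ((θ (k⁻¹ * a) : chevE7.group K) : GL chevE7.Idx K) = 1
          rw [map_mul, map_inv, hks, inv_mul_cancel, Subgroup.coe_one])
      have h1 : ψ (k⁻¹ * a) = ψ a := by
        rw [map_mul, map_inv, MonoidHom.mem_ker.1 hk, inv_one, one_mul]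
      rw [← h1]
      exact ((show Commute (k⁻¹ * a) (chevE7.scGen K 73 1) from
        (Subgroup.mem_center_iff.1 hc _).symm).map ψ)
  -- the image
  set L : Subgroup (chevE7.SteinbergCover K) := H.comap θ
  let π₁ : L →* A := π.comp ((θ.comp L.subtype).codRestrict H fun x => x.2)
  have hπ₁ : Function.Surjective π₁ := hπ.comp fun y => by
    obtain ⟨z, hz⟩ := hθsurj y
    exact ⟨⟨z, show θ z ∈ H from hz ▸ y.2⟩, Subtype.ext hz⟩
  set ψ' := ψ.comp L.subtype
  have hker : ψ'.ker ≤ π₁.ker := fun x hx => by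
    have h1 : θ x = 1 := hle hx
    rw [MonoidHom.mem_ker]
    exact (congrArg π (Subtype.ext h1)).trans (map_one π)
  have hmem : ∀ (P : GL chevE8.Idx K → Prop) , P 1 → (∀ a b, P a → P b → P (a * b)) →
      (∀ a, P a → P a⁻¹) → (∀ r < chevE7.nroots, ∀ t, P (good_E8.full.x (ioAt ioE7 r) t)) →
      ∀ g, P (ψ g) := fun P h1 hm hi hg g => by
    have hdense : g ∈ Subgroup.closure {e | ∃ r, r < chevE7.nroots ∧ ∃ t, e = S.xb r t} :=
      S.gen ▸ Subgroup.mem_top g
    induction hdense using Subgroup.closure_induction with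
    | mem e he =>
      obtain ⟨r, hr, t, rfl⟩ := he
      show P (ψ (chevE7.scGen K r t))
      rw [hψ r hr]
      exact hg r hr t
    | one => rw [map_one]; exact h1
    | mul a b _ _ ha hb => rw [map_mul]; exact hm _ _ ha hb
    | inv a _ ha => rw [map_inv]; exact hi _ ha
  have hx : ∀ (g : chevE7.SteinbergCover K) (t : K), Commute (ψ g) (good_E8.full.x 239 t) ∧
      Commute (ψ g) (good_E8.full.x (negR chevE8 239) t) := fun g t => by
    refine hmem (fun y => Commute y _ ∧ Commute y _) ⟨Commute.one_left _, Commute.one_left _⟩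
      (fun a b ha hb => ⟨ha.1.mul_left hb.1, ha.2.mul_left hb.2⟩)
      (fun a ha => ⟨ha.1.inv_left, ha.2.inv_left⟩) (fun r hr u => ?_) g
    have h := (allBelow_iff _ _).1 io_commute r hr
    rw [Bool.and_eq_true] at h
    exact ⟨(good_E8.x_commute Nat.cast_zero h.1 t u).symm,
      (good_E8.x_commute Nat.cast_zero h.2 t u).symm⟩
  let e := QuotientGroup.quotientKerEquivRange ψ'
  refine ⟨ψ'.range, (QuotientGroup.lift ψ'.ker π₁ hker).comp e.symm.toMonoidHom, ?_, ?_, ?_, ?_⟩
  · rintro _ ⟨g, rfl⟩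
    exact hmem (fun y => y ∈ chevE8.group K) (one_mem _) (fun a b => mul_mem) (fun a => inv_mem)
      (fun r _ t => good_E8.x_mem_group _ _) g
  · exact (QuotientGroup.lift_surjective_of_surjective _ _ hπ₁ hker).comp e.symm.surjective
  · rintro _ ⟨g, rfl⟩ t
    have hn : ∀ u : K, Commute (ψ' g) (good_E8.full.nr 239 u) := fun u =>
      ((hx g u).1.mul_right (hx g _).2).mul_right (hx g u).1
    exact (hn t).mul_right (hn (-1))
  · rintro _ ⟨g, rfl⟩ t
    exact (hx g t).1

end CfsgLib.E7Sections
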