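import Cfsg.Agent.E7Sections.SectionRank
import Cfsg.Agent.AltSection.Reduce
import Cfsg.Agent.CoxRot.Alt
import Mathlib.GroupTheory.Transfer

/-!
The kernel of a minimal subgroup of `E₈(q)` mapping onto a large alternating group has order prime
to `ℓ`.
-/

set_option autoImplicit false
set_option linter.style.haveILetI false

namespace CfsgLib.E7Sections

open Module Cfsg.Lie
open scoped commutatorElement

section Generic

variable {H : Type} [Group H] [Finite H] {m : ℕ} {π : H →* alternatingGroup (Fin (m + 1))}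
  {ℓ : ℕ} [Fact ℓ.Prime]

theorem normal_or_top (hm : 4 ≤ m) (hπ : Function.Surjective π)
    (hL : ∀ L : Subgroup H, L.map π = ⊤ → L = ⊤)
    (M : Subgroup H) (hM : M.Normal) : M ≤ π.ker ∨ M = ⊤ := by
  haveI : IsSimpleGroup (alternatingGroup (Fin (m + 1))) :=
    alternatingGroup.isSimpleGroup (by rw [Nat.card_eq_fintype_card, Fintype.card_fin]; omega)
  rcases (hM.map π hπ).eq_bot_or_eq_top with h | h
  · exact Or.inl ((Subgroup.map_eq_bot_iff _).1 h)
  · exact Or.inr (hL M h)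

/-- A minimal cover has no elementary abelian normal `ℓ`-subgroup of small rank inside the kernel
with index prime to `ℓ`. -/
theorem no_small_layer {B : ℕ} (hm : 8 ≤ m) (hB : B + 2 ≤ m) (hℓ : 3 ≤ ℓ) (hπ : Function.Surjective π)
    (hL : ∀ L : Subgroup H, L.map π = ⊤ → L = ⊤)
    (Ω : Subgroup H) [Ω.Normal] (hΩ : Ω ≤ π.ker) (hcomm : ∀ x ∈ Ω, ∀ y ∈ Ω, x * y = y * x)
    (hexp : ∀ x ∈ Ω, x ^ ℓ = 1) (hne : Ω ≠ ⊥) (hcard : Nat.card Ω ≤ ℓ ^ B)
    (hidx : ¬ ℓ ∣ (Ω.subgroupOf π.ker).index) : False := by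
  classical
  have hℓp : ℓ.Prime := Fact.out
  have hN := normal_or_top (by omega) hπ hL
  have hperf : commutator H = ⊤ := by
    refine (hN _ inferInstance).resolve_left fun h =>
      AltSection.not_all_commute (r := m + 1) (by omega) fun x y => ?_
    obtain ⟨a, rfl⟩ := hπ x
    obtain ⟨b, rfl⟩ := hπ y
    have hmem : ⁅a, b⁆ ∈ π.ker := h (Subgroup.commutator_mem_commutator (Subgroup.mem_top a)
      (Subgroup.mem_top b))
    rw [MonoidHom.mem_ker, map_commutatorElement, commutatorElement_eq_one_iff_mul_comm] at hmem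
    exact hmem
  -- central
  letI : CommGroup Ω := { (inferInstance : Group Ω) with
    mul_comm := fun y z => Subtype.ext (hcomm _ y.2 _ z.2) }
  haveI : Module (ZMod ℓ) (Additive Ω) := AddCommGroup.zmodModule fun y =>
    Additive.toMul.injective (by
      rw [toMul_nsmul, toMul_zero]
      exact Subtype.ext (by simpa using hexp _ y.toMul.2))
  haveI : Module.Finite (ZMod ℓ) (Additive Ω) := Module.Finite.of_finite
  let θ : H →* Module.End (ZMod ℓ) (Additive Ω) :=
    { toFun := fun h =>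
        (MonoidHom.toAdditive (MulAut.conjNormal (H := Ω) h).toMonoidHom).toZModLinearMap ℓ
      map_one' := LinearMap.ext fun y => by
        show Additive.ofMul (MulAut.conjNormal (1 : H) y.toMul) = y
        rw [map_one]; rfl
      map_mul' := fun g h => LinearMap.ext fun y => by
        show Additive.ofMul (MulAut.conjNormal (g * h) y.toMul) =
          Additive.ofMul (MulAut.conjNormal g (MulAut.conjNormal h y.toMul))
        rw [map_mul]; rfl }
  set d := finrank (ZMod ℓ) (Additive Ω)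
  have hd : d ≤ B := by
    rw [Nat.card_congr (Additive.ofMul (α := Ω)), Module.natCard_eq_pow_finrank (K := ZMod ℓ),
      Nat.card_zmod] at hcard
    exact (Nat.pow_le_pow_iff_right hℓp.one_lt).1 hcard
  have htop : θ.ker = ⊤ := by
    refine (hN θ.ker inferInstance).resolve_left fun hle => ?_
    let b := Module.finBasis (ZMod ℓ) (Additive Ω)
    let f : Module.End (ZMod ℓ) (Additive Ω) →* Module.End (AlgebraicClosure (ZMod ℓ))
        (Fin d → AlgebraicClosure (ZMod ℓ)) :=
      (Matrix.toLinAlgEquiv' (R := AlgebraicClosure (ZMod ℓ))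
          (n := Fin d)).toAlgHom.toRingHom.toMonoidHom.comp
        ((algebraMap (ZMod ℓ) (AlgebraicClosure (ZMod ℓ))).mapMatrix.toMonoidHom.comp
          (LinearMap.toMatrixAlgEquiv b).toAlgHom.toRingHom.toMonoidHom)
    have hf : Function.Injective f :=
      (Matrix.toLinAlgEquiv' (R := AlgebraicClosure (ZMod ℓ)) (n := Fin d)).injective.comp
        ((Matrix.map_injective (algebraMap (ZMod ℓ) (AlgebraicClosure (ZMod ℓ))).injective).comp
          (LinearMap.toMatrixAlgEquiv b).injective)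
    have := AltSection.good (m + 1) (by omega) d ℓ (AlgebraicClosure (ZMod ℓ)) H π _ (f.comp θ) hπ
      (fun h hh => hle (by
        rw [MonoidHom.mem_ker] at hh ⊢
        exact hf (by rw [map_one]; exact hh))) (Module.finrank_fin_fun _)
    split_ifs at this <;> omega
  have hzc : ∀ h : H, ∀ z ∈ Ω, h * z = z * h := fun h z hz => by
    have h1 : θ h = 1 := (htop ▸ Subgroup.mem_top h : h ∈ θ.ker)
    have h2 := LinearMap.congr_fun h1 (Additive.ofMul (⟨z, hz⟩ : Ω))
    have h3 : h * z * h⁻¹ = z := congrArg (fun y : Additive Ω => ((y.toMul : Ω) : H)) h2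
    exact mul_inv_eq_iff_eq_mul.1 h3
  -- the projection of the kernel onto the layer
  set e := (Ω.subgroupOf π.ker).index with he
  set c := (Subgroup.center π.ker).index with hc
  have hce : c ∣ e := Subgroup.index_dvd_of_le fun x hx => Subgroup.mem_center_iff.mpr fun y =>
    Subtype.ext (hzc y x hx)
  let χ : π.ker →* Subgroup.center π.ker :=
    MonoidHom.mk' (fun k => MonoidHom.transferCenterPow π.ker k ^ e) fun x y => by
      rw [map_mul]
      exact Commute.mul_pow (Subtype.ext (Subgroup.mem_center_iff.1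
        (MonoidHom.transferCenterPow π.ker y).2 _)) e
  have hχ : ∀ k : π.ker, ((χ k : π.ker) : H) = (k : H) ^ (c * e) := fun k => by
    simp [χ, MonoidHom.transferCenterPow_apply, pow_mul, hc]
  have hχΩ : ∀ k : π.ker, (k : H) ^ (c * e) ∈ Ω := fun k => by
    have h : k ^ e ∈ Ω.subgroupOf π.ker := Subgroup.pow_index_mem _ k
    rw [mul_comm, pow_mul]
    exact pow_mem (show ((k ^ e : π.ker) : H) ∈ Ω from h) c
  have hinjΩ : ∀ z ∈ Ω, z ^ (c * e) = 1 → z = 1 := fun z hz h1 => by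
    have hco : Nat.Coprime ℓ (c * e) := hℓp.coprime_iff_not_dvd.2 fun h =>
      (hℓp.dvd_mul.1 h).elim (fun h => hidx (h.trans hce)) hidx
    have := pow_gcd_eq_one.2 ⟨hexp z hz, h1⟩
    rwa [hco.gcd_eq_one, pow_one] at this
  set M : Subgroup H := χ.ker.map π.ker.subtype with hM
  have hMmem : ∀ x, x ∈ M ↔ x ∈ π.ker ∧ x ^ (c * e) = 1 := fun x => by
    constructor
    · rintro ⟨k, hk, rfl⟩
      exact ⟨k.2, by rw [Subgroup.coe_subtype, ← hχ, MonoidHom.mem_ker.1 hk]; rfl⟩
    · rintro ⟨hx, h1⟩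
      exact ⟨⟨x, hx⟩, MonoidHom.mem_ker.2 (Subtype.ext (Subtype.ext ((hχ _).trans h1))), rfl⟩
  haveI hMn : M.Normal := ⟨fun x hx h => by
    rw [hMmem] at hx ⊢
    exact ⟨(MonoidHom.normal_ker π).conj_mem x hx.1 h, by
      rw [conj_pow, hx.2, mul_one, mul_inv_cancel]⟩⟩
  let π₂ : H ⧸ M →* alternatingGroup (Fin (m + 1)) :=
    QuotientGroup.lift M π fun x hx => ((hMmem x).1 hx).1
  have hπ₂ : Function.Surjective π₂ := fun y => by
    obtain ⟨x, rfl⟩ := hπ y
    exact ⟨x, rfl⟩
  have hker₂ : ∀ y ∈ π₂.ker, ∃ k ∈ π.ker, (k : H ⧸ M) = y := fun y hy => by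
    obtain ⟨k, rfl⟩ := QuotientGroup.mk_surjective y
    exact ⟨k, hy, rfl⟩
  have hcent : π₂.ker ≤ Subgroup.center (H ⧸ M) := fun y hy => by
    obtain ⟨k, hk, rfl⟩ := hker₂ y hy
    refine Subgroup.mem_center_iff.2 fun w => ?_
    obtain ⟨h, rfl⟩ := QuotientGroup.mk_surjective w
    rw [← QuotientGroup.mk_mul, ← QuotientGroup.mk_mul, QuotientGroup.eq]
    have hconj : h⁻¹ * k * h ∈ π.ker := by
      simpa using (MonoidHom.normal_ker π).conj_mem k hk h⁻¹
    have e1 : χ ⟨h⁻¹ * k * h, hconj⟩ = χ ⟨k, hk⟩ := Subtype.ext (Subtype.ext (by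
      rw [hχ, hχ]
      show (h⁻¹ * k * h) ^ (c * e) = k ^ (c * e)
      have e2 : (h⁻¹ * k * h) ^ (c * e) = h⁻¹ * k ^ (c * e) * h := by
        simpa using conj_pow (i := c * e) (a := h⁻¹) (b := k)
      rw [e2, mul_assoc, ← hzc h _ (hχΩ ⟨k, hk⟩), inv_mul_cancel_left]))
    refine ⟨(⟨k, hk⟩ : π.ker)⁻¹ * ⟨h⁻¹ * k * h, hconj⟩, MonoidHom.mem_ker.2 ?_, ?_⟩
    · rw [map_mul, map_inv, e1, inv_mul_cancel]
    · simp [mul_assoc]
  have hperf₂ : π₂.ker ≤ commutator (H ⧸ M) := by
    refine fun y _ => ?_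
    have h := Subgroup.map_commutator (⊤ : Subgroup H) ⊤ (QuotientGroup.mk' M)
    rw [← MonoidHom.range_eq_map, QuotientGroup.range_mk', show ⁅(⊤ : Subgroup H), ⊤⁆ = ⊤ from hperf,
      ← MonoidHom.range_eq_map, QuotientGroup.range_mk'] at h
    rw [commutator_def, ← h]
    trivial
  have h2 := CoxRot.card_ker_le_two_alt (by omega) (by omega) (by omega) hcent hperf₂ hπ₂
  obtain ⟨⟨z, hz⟩, hz1'⟩ := Subgroup.ne_bot_iff_exists_ne_one.1 hne
  have hz1 : z ≠ 1 := fun e => hz1' (Subtype.ext e)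
  have hord : orderOf (⟨(z : H ⧸ M), show π z = 1 from hΩ hz⟩ : π₂.ker) = ℓ := by
    refine orderOf_eq_prime (Subtype.ext ?_) fun h => hz1 ?_
    · show ((z : H ⧸ M)) ^ ℓ = 1
      rw [← QuotientGroup.mk_pow, hexp z hz]; rfl
    · have h' := congrArg Subtype.val h
      exact hinjΩ z hz ((hMmem z).1 ((QuotientGroup.eq_one_iff z).1 h')).2
  have := Nat.le_of_dvd Nat.card_pos (hord ▸ orderOf_dvd_natCard _)
  omega

end Generic

/-- The kernel of a minimal subgroup of `E₈(q)` onto an alternating group has order prime to `ℓ`. -/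
theorem ker_prime_to_of_bound {K : Type} [Field K] [Fintype K] {ℓ k₀ : ℕ} [Fact ℓ.Prime]
    (hℓ : 3 ≤ ℓ) (hW : (696729600 : ℕ).factorization ℓ ≤ k₀)
    (hq : (Fintype.card K : ZMod (ℓ ^ (k₀ + 1))) = 1) {m : ℕ} (hm : 10 + k₀ ≤ m)
    {X : Subgroup (GL chevE8.Idx K)} (hX : X ≤ chevE8.group K)
    (π : X →* alternatingGroup (Fin (m + 1))) (hπ : Function.Surjective π)
    (hL : ∀ L : Subgroup X, L.map π = ⊤ → L = ⊤) : ¬ ℓ ∣ Nat.card π.ker := by
  classical
  intro hd
  have hℓp : ℓ.Prime := Fact.out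
  let P : Sylow ℓ π.ker := default
  set O : Subgroup X := (P : Subgroup π.ker).map π.ker.subtype with hOdef
  haveI hnormal : O.Normal := by
    rw [← Subgroup.normalizer_eq_top_iff]
    refine hL _ ?_
    have h := congrArg (Subgroup.map π) (Sylow.normalizer_sup_eq_top P)
    rw [Subgroup.map_sup, (Subgroup.map_eq_bot_iff _).2 le_rfl, sup_bot_eq,
      Subgroup.map_top_of_surjective π hπ] at h
    exact h
  have hOker : O ≤ π.ker := Subgroup.map_subtype_le _
  have hOp : IsPGroup ℓ O := P.2.map _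
  have hO1 : O ≠ ⊥ := fun h => by
    have h1 : Nat.card O = Nat.card (P : Subgroup π.ker) := Subgroup.card_subtype _ _
    rw [h, Subgroup.card_bot] at h1
    exact hℓp.ne_one (Nat.dvd_one.1 (h1.symm ▸ P.dvd_card_of_dvd_card hd))
  -- the layer
  let pw : Abelianization O →* Abelianization O := powMonoidHom ℓ
  let f : O →* Abelianization O ⧸ pw.range := (QuotientGroup.mk' _).comp Abelianization.of
  have hfexp : ∀ x : O, f x ^ ℓ = 1 := fun x => by
    rw [← map_pow]
    exact (QuotientGroup.eq_one_iff _).2 ⟨Abelianization.of x, by simp [pw]⟩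
  set R : Subgroup X := f.ker.map O.subtype with hRdef
  haveI hRn : R.Normal := ⟨by
    rintro _ ⟨x, hx, rfl⟩ h
    let φ : O →* O := (MulAut.conjNormal (H := O) h).toMonoidHom
    obtain ⟨a, ha⟩ := (QuotientGroup.eq_one_iff _).1 (MonoidHom.mem_ker.1 hx)
    refine ⟨φ x, MonoidHom.mem_ker.2 ((QuotientGroup.eq_one_iff _).2
      ⟨Abelianization.map φ a, ?_⟩), rfl⟩
    show (Abelianization.map φ a) ^ ℓ = Abelianization.of (φ x)
    rw [← map_pow, show a ^ ℓ = Abelianization.of x from ha, Abelianization.map_of]⟩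
  have hRO : R ≤ O := Subgroup.map_subtype_le _
  let π' : X ⧸ R →* alternatingGroup (Fin (m + 1)) := QuotientGroup.lift R π (hRO.trans hOker)
  have hπ' : Function.Surjective π' := fun y => by
    obtain ⟨x, rfl⟩ := hπ y
    exact ⟨x, rfl⟩
  have hL' : ∀ L : Subgroup (X ⧸ R), L.map π' = ⊤ → L = ⊤ := by
    intro L h
    have h1 : L.comap (QuotientGroup.mk' R) = ⊤ := hL _ (top_le_iff.1 fun y _ => by
      obtain ⟨w, hw, rfl⟩ := (h.symm ▸ Subgroup.mem_top y : y ∈ L.map π')
      obtain ⟨x, rfl⟩ := QuotientGroup.mk_surjective w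
      exact ⟨x, hw, rfl⟩)
    exact top_le_iff.1 fun w _ => by
      obtain ⟨x, rfl⟩ := QuotientGroup.mk_surjective w
      exact (h1.symm ▸ Subgroup.mem_top x : x ∈ L.comap (QuotientGroup.mk' R))
  set Ω : Subgroup (X ⧸ R) := O.map (QuotientGroup.mk' R) with hΩdef
  haveI : Ω.Normal := hnormal.map _ (QuotientGroup.mk'_surjective R)
  have hmk : ∀ x : O, f x = 1 → ((x : X) : X ⧸ R) = 1 := fun x hx =>
    (QuotientGroup.eq_one_iff _).2 ⟨x, hx, rfl⟩
  have hcomm : ∀ x ∈ Ω, ∀ y ∈ Ω, x * y = y * x := by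
    rintro _ ⟨x, hx, rfl⟩ _ ⟨y, hy, rfl⟩
    have h := hmk ⁅(⟨x, hx⟩ : O), ⟨y, hy⟩⁆ (by
      rw [map_commutatorElement, commutatorElement_eq_one_iff_mul_comm, mul_comm])
    rw [← commutatorElement_eq_one_iff_mul_comm, ← map_commutatorElement]
    exact h
  have hexp : ∀ x ∈ Ω, x ^ ℓ = 1 := by
    rintro _ ⟨x, hx, rfl⟩
    rw [← map_pow]
    exact hmk (⟨x, hx⟩ ^ ℓ : O) (by rw [map_pow, hfexp])
  have hne : Ω ≠ ⊥ := fun h => by
    have hle : O ≤ R := by
      rwa [hΩdef, Subgroup.map_eq_bot_iff, QuotientGroup.ker_mk'] at h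
    have hf1 : ∀ x : O, f x = 1 := fun x => by
      obtain ⟨y, hy, hyx⟩ := hle x.2
      rw [← Subtype.ext hyx]
      exact hy
    haveI : Nontrivial O := (Subgroup.nontrivial_iff_ne_bot O).2 hO1
    have hsurj : Function.Surjective pw := fun a => by
      obtain ⟨x, rfl⟩ := QuotientGroup.mk_surjective a
      exact (QuotientGroup.eq_one_iff _).1 (hf1 x)
    have hinj := Finite.injective_iff_surjective.2 hsurj
    haveI : Nontrivial (Abelianization O) := by
      by_contra hn
      rw [not_nontrivial_iff_subsingleton] at hn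
      haveI := hOp.isNilpotent
      have : commutator O = ⊤ := by
        rw [eq_top_iff]
        intro x _
        rw [← Abelianization.ker_of]
        exact Subsingleton.elim _ _
      exact (IsSolvable.commutator_lt_top_of_nontrivial O).ne this
    have hp : IsPGroup ℓ (Abelianization O) :=
      hOp.of_surjective Abelianization.of QuotientGroup.mk_surjective
    obtain ⟨k, hk0, hk⟩ := hp.nontrivial_iff_card.1 inferInstance
    obtain ⟨a, ha⟩ := exists_prime_orderOf_dvd_card' (G := Abelianization O) ℓ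
      (hk ▸ dvd_pow_self ℓ hk0.ne')
    have h1 : a = 1 := hinj (show a ^ ℓ = 1 ^ ℓ by rw [one_pow, ← ha, pow_orderOf_eq_one])
    rw [h1, orderOf_one] at ha
    exact hℓp.ne_one ha.symm
  have hcard : Nat.card Ω ≤ ℓ ^ (8 + k₀) := by
    letI : CommGroup Ω := { (inferInstance : Group Ω) with
      mul_comm := fun y z => Subtype.ext (hcomm _ y.2 _ z.2) }
    let g : O.map X.subtype →* Ω :=
      (((QuotientGroup.mk' R).comp O.subtype).codRestrict Ω fun x => Subgroup.mem_map_of_mem _ x.2).comp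
        (O.equivMapOfInjective X.subtype X.subtype_injective).symm.toMonoidHom
    refine card_section_le hW hq (fun u => Subtype.ext (hexp u u.2)) (O.map X.subtype)
      ((Subgroup.map_subtype_le _).trans hX) (hOp.map _) g ?_
    rintro ⟨_, x, hx, rfl⟩
    exact ⟨O.equivMapOfInjective X.subtype X.subtype_injective ⟨x, hx⟩, Subtype.ext (by simp [g])⟩
  have hidx : ¬ ℓ ∣ (Ω.subgroupOf π'.ker).index := by
    have hΩker : Ω ≤ π'.ker := by
      rintro _ ⟨x, hx, rfl⟩
      exact hOker hx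
    let ψ : π.ker →* π'.ker :=
      ((QuotientGroup.mk' R).comp π.ker.subtype).codRestrict _ fun x => x.2
    have hψ : Function.Surjective ψ := by
      rintro ⟨w, hw⟩
      obtain ⟨x, rfl⟩ := QuotientGroup.mk_surjective w
      exact ⟨⟨x, hw⟩, rfl⟩
    have hsub : (P : Subgroup π.ker).map ψ = Ω.subgroupOf π'.ker := by
      ext w
      constructor
      · rintro ⟨x, hx, rfl⟩
        exact ⟨_, ⟨x, hx, rfl⟩, rfl⟩
      · rintro ⟨_, ⟨x, hx, rfl⟩, hxw⟩
        exact ⟨x, hx, Subtype.ext hxw⟩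
    rw [← hsub]
    exact fun h => P.not_dvd_index (h.trans (Subgroup.index_map_dvd _ hψ))
  exact no_small_layer (B := 8 + k₀) (by omega) (by omega) hℓ hπ' hL' Ω (by
    rintro _ ⟨x, hx, rfl⟩
    exact hOker hx) hcomm hexp hne hcard hidx

/-- The case `ℓ = 5, 7`. -/
theorem ker_prime_to {K : Type} [Field K] [Fintype K] {ℓ : ℕ} [Fact ℓ.Prime] (hℓ : ℓ = 5 ∨ ℓ = 7)
    (hq : (Fintype.card K : ZMod (ℓ ^ 3)) = 1) {m : ℕ} (hm : 13 ≤ m)
    {X : Subgroup (GL chevE8.Idx K)} (hX : X ≤ chevE8.group K)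
    (π : X →* alternatingGroup (Fin (m + 1))) (hπ : Function.Surjective π)
    (hL : ∀ L : Subgroup X, L.map π = ⊤ → L = ⊤) : ¬ ℓ ∣ Nat.card π.ker :=
  ker_prime_to_of_bound (k₀ := 2) (by omega) (fac_W ℓ hℓ) hq (by omega) hX π hπ hL

end CfsgLib.E7Sections
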