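import Cfsg.Agent.E7Sections.Count
import Mathlib.GroupTheory.SpecificGroups.Alternating

/-!
Elementary abelian subgroups of the alternating groups of degrees 14 and 15, with elements of their
normalisers.
-/

set_option autoImplicit false

namespace CfsgLib.E7Sections

open Equiv

variable {ℓ d : ℕ}

/-- A translation in each block. -/
def tr (e : Fin d → ZMod ℓ) : Perm (Fin d × ZMod ℓ) :=
  Equiv.prodShear (Equiv.refl _) fun i => Equiv.addRight (e i)

/-- A monomial linear map of the blocks. -/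
def blk (τ : Perm (Fin d)) (u : Fin d → (ZMod ℓ)ˣ) : Perm (Fin d × ZMod ℓ) :=
  Equiv.prodShear τ fun i => (u i).mulLeft

theorem blk_tr {τ : Perm (Fin d)} {u : Fin d → (ZMod ℓ)ˣ} {e e' : Fin d → ZMod ℓ}
    (h : ∀ i, e' (τ i) = u i * e i) : blk τ u * tr e = tr e' * blk τ u := by
  refine Equiv.ext fun ⟨i, r⟩ => ?_
  simp [blk, tr, Equiv.prodShear, h, mul_add]

variable [NeZero ℓ]

theorem tr_add (e f : Fin d → ZMod ℓ) : tr (e + f) = tr e * tr f := by
  refine Equiv.ext fun ⟨i, r⟩ => ?_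
  simp [tr, Equiv.prodShear, add_comm, add_left_comm]

theorem tr_sign (hℓ : Odd ℓ) (e : Fin d → ZMod ℓ) : Perm.sign (tr e) = 1 := by
  have hpow : ∀ k : ℕ, tr e ^ k = tr (k • e) := by
    intro k
    induction k with
    | zero => exact Equiv.ext fun ⟨i, r⟩ => by simp [tr, Equiv.prodShear]
    | succ k ih => rw [pow_succ, ih, ← tr_add, succ_nsmul]
  have h : tr e ^ ℓ = 1 := by
    rw [hpow, show ℓ • e = 0 from funext fun i => by simp]
    exact Equiv.ext fun ⟨i, r⟩ => by simp [tr, Equiv.prodShear]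
  have h' := congrArg Perm.sign h
  rw [map_pow, map_one] at h'
  rcases Int.units_eq_one_or (Perm.sign (tr e)) with h1 | h1
  · exact h1
  · rw [h1, hℓ.neg_one_pow] at h'
    exact absurd h' (by decide)

variable {n : ℕ} (eqv : Fin d × ZMod ℓ ≃ Fin n)

/-- The translations as permutations of `n` points. -/
def iot (hℓ : Odd ℓ) : Multiplicative (Fin d → ZMod ℓ) →* alternatingGroup (Fin n) :=
  MonoidHom.mk' (fun e => ⟨eqv.permCongr (tr e.toAdd), by
    rw [Perm.mem_alternatingGroup, Perm.sign_permCongr, tr_sign hℓ]⟩) fun e f => Subtype.ext (by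
    show eqv.permCongr (tr (e.toAdd + f.toAdd)) = eqv.permCongr (tr e.toAdd) * eqv.permCongr (tr f.toAdd)
    rw [tr_add, Equiv.permCongr_mul])

theorem iot_injective (hℓ : Odd ℓ) : Function.Injective (iot eqv hℓ) := fun e f h => by
  have h' := eqv.permCongr.injective (congrArg Subtype.val h)
  refine Multiplicative.toAdd.injective (funext fun i => ?_)
  simpa [tr, Equiv.prodShear] using congrArg Prod.snd (Equiv.congr_fun h' (i, 0))

theorem iot_conj (hℓ : Odd ℓ) {τ : Perm (Fin d)} {u : Fin d → (ZMod ℓ)ˣ} {e e' : Fin d → ZMod ℓ}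
    (hs : Perm.sign (blk τ u) = 1) (h : ∀ i, e' (τ i) = u i * e i) :
    ∃ g : alternatingGroup (Fin n),
      g * iot eqv hℓ (Multiplicative.ofAdd e) * g⁻¹ = iot eqv hℓ (Multiplicative.ofAdd e') := by
  refine ⟨⟨eqv.permCongr (blk τ u), by
    rw [Perm.mem_alternatingGroup, Perm.sign_permCongr, hs]⟩, Subtype.ext ?_⟩
  show eqv.permCongr (blk τ u) * eqv.permCongr (tr e) * (eqv.permCongr (blk τ u))⁻¹ =
    eqv.permCongr (tr e')
  rw [mul_inv_eq_iff_eq_mul, ← Equiv.permCongr_mul, ← Equiv.permCongr_mul, blk_tr h]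

/-- The blocks of seven points. -/
noncomputable def eqv7 : Fin 2 × ZMod 7 ≃ Fin 14 := finProdFinEquiv

/-- The blocks of five points. -/
noncomputable def eqv5 : Fin 3 × ZMod 5 ≃ Fin 15 := finProdFinEquiv

theorem odd_seven : Odd 7 := by decide

theorem odd_five : Odd 5 := by decide

/-- The translations of two blocks of seven. -/
noncomputable def iot7 : Multiplicative (Fin 2 → ZMod 7) →* alternatingGroup (Fin 14) :=
  iot eqv7 odd_seven

/-- The translations of three blocks of five. -/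
noncomputable def iot5 : Multiplicative (Fin 3 → ZMod 5) →* alternatingGroup (Fin 15) :=
  iot eqv5 odd_five

/-- Two elements conjugate under the monomial maps of the blocks. -/
def Rel (e e' : Fin d → ZMod ℓ) : Prop :=
  ∃ (τ : Perm (Fin d)) (u : Fin d → (ZMod ℓ)ˣ),
    Perm.sign (blk τ u) = 1 ∧ ∀ i, e' (τ i) = u i * e i

theorem Rel.conj (hℓ : Odd ℓ) {e e' : Fin d → ZMod ℓ} (h : Rel e e') :
    ∃ g : alternatingGroup (Fin n),
      g * iot eqv hℓ (Multiplicative.ofAdd e) * g⁻¹ = iot eqv hℓ (Multiplicative.ofAdd e') := by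
  obtain ⟨τ, u, hs, hu⟩ := h
  exact iot_conj eqv hℓ hs hu

/-- The units modulo seven. -/
def u7 : Fin 6 → (ZMod 7)ˣ :=
  ![1, ⟨2, 4, by decide, by decide⟩, ⟨3, 5, by decide, by decide⟩, ⟨4, 2, by decide, by decide⟩,
    ⟨5, 3, by decide, by decide⟩, ⟨6, 6, by decide, by decide⟩]

/-- The monomial maps used for two blocks of seven. -/
def cands7 : List (Perm (Fin 2) × (Fin 2 → (ZMod 7)ˣ)) :=
  [(1, ![u7 2, u7 2]), (swap 0 1, ![1, u7 2]), (1, ![1, 1]), (1, ![1, u7 1]),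
    (swap 0 1, ![u7 2, 1]), (1, ![1, u7 3]), (swap 0 1, ![u7 4, 1]), (swap 0 1, ![u7 5, 1])]

theorem sign_cands7 : ∀ c ∈ cands7, Perm.sign (blk c.1 c.2) = 1 := by decide +kernel

theorem pow_seven : ∀ e ∈ lines7, ∃ c ∈ cands7, ∀ i, ((3 : ℕ) • e) (c.1 i) = c.2 i * e i := by
  decide +kernel

theorem class_seven : ∀ e ∈ lines7, ∃ r ∈ ([![1, 0], ![1, 1]] : List (Fin 2 → ZMod 7)),
    ∃ c ∈ cands7, ∀ i, e (c.1 i) = c.2 i * r i := by decide +kernel

theorem rel_pow_seven {e : Fin 2 → ZMod 7} (he : e ∈ lines7) : Rel e ((3 : ℕ) • e) := by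
  obtain ⟨c, hc, h⟩ := pow_seven e he
  exact ⟨c.1, c.2, sign_cands7 c hc, h⟩

/-- The units modulo five. -/
def u5 : Fin 4 → (ZMod 5)ˣ :=
  ![1, ⟨2, 3, by decide, by decide⟩, ⟨3, 2, by decide, by decide⟩, ⟨4, 4, by decide, by decide⟩]

/-- The monomial maps used for three blocks of five. -/
def cands5 : List (Perm (Fin 3) × (Fin 3 → (ZMod 5)ˣ)) :=
  [(1, ![u5 1, u5 1, 1]), (1, ![u5 1, 1, u5 1]), (1, ![1, u5 1, u5 1]),
    (swap 0 1, ![u5 1, u5 1, u5 1]), (swap 0 1, ![u5 3, 1, u5 1]), (swap 0 1, ![1, u5 3, u5 1]),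
    (swap 0 1, ![u5 2, u5 2, u5 1])]

theorem sign_cands5 : ∀ c ∈ cands5, Perm.sign (blk c.1 c.2) = 1 := by decide +kernel

theorem pow_five : ∀ e ∈ lines5, ∃ c ∈ cands5, ∀ i, ((2 : ℕ) • e) (c.1 i) = c.2 i * e i := by
  decide +kernel

theorem rel_pow_five {e : Fin 3 → ZMod 5} (he : e ∈ lines5) : Rel e ((2 : ℕ) • e) := by
  obtain ⟨c, hc, h⟩ := pow_five e he
  exact ⟨c.1, c.2, sign_cands5 c hc, h⟩

theorem mem_seven : (![1, 0] : Fin 2 → ZMod 7) ∈ lines7 ∧ (![1, 1] : Fin 2 → ZMod 7) ∈ lines7 := by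
  decide +kernel

theorem class_axis : ∃ c ∈ cands7, ∀ i,
    (![0, 1] : Fin 2 → ZMod 7) (c.1 i) = c.2 i * (![1, 0] : Fin 2 → ZMod 7) i := by decide +kernel

theorem class_diag : ∀ e ∈ ([![1, 2], ![1, 3], ![1, 4], ![1, 5], ![1, 6]] : List (Fin 2 → ZMod 7)),
    ∃ c ∈ cands7, ∀ i, e (c.1 i) = c.2 i * (![1, 1] : Fin 2 → ZMod 7) i := by decide +kernel

theorem nonzero_seven : ∀ e ∈ lines7, e ≠ 0 := by decide +kernel

theorem nonzero_five : ∀ e ∈ lines5, e ≠ 0 := by decide +kernel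

end CfsgLib.E7Sections
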