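import Cfsg.Agent.E7Sections.Kernel
import Cfsg.Agent.E7Sections.Perms

/-!
Lifts of elementary abelian subgroups through a surjection with kernel of order prime to `ℓ`.
-/

set_option autoImplicit false

namespace CfsgLib.E7Sections

open Cfsg.Lie

variable {H A : Type} [Group H] [Finite H] [Group A] [Finite A] {ℓ : ℕ} [Fact ℓ.Prime]

theorem orderOf_dvd_zero {π : H →* A} (hker : ¬ ℓ ∣ Nat.card π.ker) {y : H} {k : ℕ}
    (hy : y ^ ℓ ^ k = 1) (h1 : π y = 1) : y = 1 := by
  have h2 : orderOf y ∣ Nat.card π.ker := by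
    rw [← Subgroup.orderOf_mk y (MonoidHom.mem_ker.2 h1)]; exact orderOf_dvd_natCard _
  have hco : Nat.Coprime (ℓ ^ k) (Nat.card π.ker) :=
    Nat.Coprime.pow_left k ((Fact.out : ℓ.Prime).coprime_iff_not_dvd.2 hker)
  exact orderOf_eq_one_iff.1 (Nat.eq_one_of_dvd_coprimes hco (orderOf_dvd_of_pow_eq_one hy) h2)

theorem card_comap {π : H →* A} (hπ : Function.Surjective π) (S : Subgroup A) :
    Nat.card (S.comap π) = Nat.card π.ker * Nat.card S := by
  have h1 := (S.comap π).card_mul_index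
  have h2 := π.ker.card_mul_index
  have h3 := S.card_mul_index
  rw [Subgroup.index_comap_of_surjective S hπ] at h1
  rw [Subgroup.index_ker, MonoidHom.range_eq_top_of_surjective π hπ, Subgroup.card_top, ← h3,
    ← mul_assoc, ← h1] at h2
  exact (Nat.eq_of_mul_eq_mul_right (Nat.pos_of_ne_zero Subgroup.index_ne_zero_of_finite) h2).symm

/-- An elementary abelian subgroup lifts. -/
theorem exists_hom_lift {π : H →* A} (hπ : Function.Surjective π) (hker : ¬ ℓ ∣ Nat.card π.ker)
    {E : Type} [Group E] [Finite E] {k : ℕ} (hE : Nat.card E = ℓ ^ k) (ι : E →* A)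
    (hι : Function.Injective ι) : ∃ φ : E →* H, ∀ e, π (φ e) = ι e := by
  classical
  set M : Subgroup H := ι.range.comap π
  obtain ⟨Q⟩ : Nonempty (Sylow ℓ M) := inferInstance
  have hcardQ : Nat.card (Q : Subgroup M) = ℓ ^ k := by
    rw [Q.card_eq_multiplicity, card_comap hπ,
      ← Nat.card_congr (MonoidHom.ofInjective hι).toEquiv, hE,
      Nat.factorization_mul Nat.card_pos.ne' (pow_ne_zero _ (Fact.out : ℓ.Prime).ne_zero),
      Finsupp.add_apply, Nat.factorization_eq_zero_of_not_dvd hker, zero_add,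
      (Fact.out : ℓ.Prime).factorization_pow, Finsupp.single_eq_same]
  let g : (Q : Subgroup M) →* ι.range :=
    (π.comp (M.subtype.comp (Q : Subgroup M).subtype)).codRestrict _ fun y => y.1.2
  have hinj : Function.Injective g := (injective_iff_map_eq_one g).2 fun y hy => by
    have h1 : ((y : M) : H) ^ ℓ ^ k = 1 := by
      have := congrArg (fun z : (Q : Subgroup M) => ((z : M) : H)) (pow_card_eq_one' (x := y))
      rwa [hcardQ] at this
    exact Subtype.ext (Subtype.ext (orderOf_dvd_zero hker h1 (congrArg Subtype.val hy)))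
  have hbij : Function.Bijective g := (Nat.bijective_iff_injective_and_card g).2
    ⟨hinj, by rw [hcardQ, ← Nat.card_congr (MonoidHom.ofInjective hι).toEquiv, hE]⟩
  let ge : (Q : Subgroup M) ≃* ι.range := MulEquiv.ofBijective g hbij
  refine ⟨(M.subtype.comp (Q : Subgroup M).subtype).comp
    (ge.symm.toMonoidHom.comp ι.rangeRestrict), fun e => ?_⟩
  show (g (ge.symm (ι.rangeRestrict e)) : A) = ι e
  exact congrArg Subtype.val (ge.apply_symm_apply _)

/-- Elements of order `ℓ` with the same image are conjugate. -/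
theorem conj_of_image {π : H →* A} (hπ : Function.Surjective π) (hker : ¬ ℓ ∣ Nat.card π.ker)
    {x x' : H} (hx : x ^ ℓ = 1) (hx' : x' ^ ℓ = 1) (h : π x = π x') (hne : π x' ≠ 1) :
    ∃ k, k * x * k⁻¹ = x' := by
  classical
  have hℓp : ℓ.Prime := Fact.out
  set a := π x' with ha
  have haℓ : orderOf a = ℓ := orderOf_eq_prime (by rw [ha, ← map_pow, hx', map_one]) hne
  set M : Subgroup H := (Subgroup.zpowers a).comap π
  have hfac : (Nat.card M).factorization ℓ = 1 := by
    rw [card_comap hπ, Nat.card_zpowers, haℓ, Nat.factorization_mul Nat.card_pos.ne' hℓp.ne_zero,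
      Finsupp.add_apply, Nat.factorization_eq_zero_of_not_dvd hker, zero_add,
      hℓp.factorization_self]
  have hxM : x ∈ M := by rw [Subgroup.mem_comap, h]; exact Subgroup.mem_zpowers a
  have hxM' : x' ∈ M := Subgroup.mem_zpowers a
  have hS : ∀ (y : H) (hy : y ∈ M), y ^ ℓ = 1 → π y = a →
      ∃ S : Sylow ℓ M, (S : Subgroup M) = Subgroup.zpowers ⟨y, hy⟩ := by
    intro y hy hyℓ hya
    have hy1 : orderOf (⟨y, hy⟩ : M) = ℓ := orderOf_eq_prime (Subtype.ext hyℓ) fun e => by
      apply hne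
      rw [← hya, show y = 1 from congrArg Subtype.val e, map_one]
    exact ⟨Sylow.ofCard (Subgroup.zpowers (⟨y, hy⟩ : M)) (by rw [Nat.card_zpowers, hy1, hfac, pow_one]), rfl⟩
  obtain ⟨S, hS1⟩ := hS x hxM hx h
  obtain ⟨S', hS2⟩ := hS x' hxM' hx' rfl
  obtain ⟨k, hk⟩ := MulAction.exists_smul_eq M S S'
  have h1 : k * ⟨x, hxM⟩ * k⁻¹ ∈ (S' : Subgroup M) := by
    rw [← hk, Sylow.coe_subgroup_smul]
    exact ⟨_, hS1.symm ▸ Subgroup.mem_zpowers _, rfl⟩
  rw [hS2, Subgroup.mem_zpowers_iff] at h1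
  obtain ⟨j, hj⟩ := h1
  refine ⟨k, ?_⟩
  have hj' : x' ^ j = k * x * (k : H)⁻¹ := by
    have := congrArg (M.subtype) hj
    simpa using this
  obtain ⟨i, hi⟩ := Subgroup.mem_zpowers_iff.1 (show π k ∈ Subgroup.zpowers a from k.2)
  have e : a ^ j = a := by
    calc a ^ j = π (x' ^ j) := (map_zpow π x' j).symm
      _ = π k * a * (π k)⁻¹ := by rw [hj', map_mul, map_mul, map_inv, h]
      _ = a := by rw [← hi, (Commute.self_zpow a i).symm.eq, mul_inv_cancel_right]
  rw [← hj']
  have e1 : (ℓ : ℤ) ∣ j - 1 := by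
    rw [← haℓ, orderOf_dvd_iff_zpow_eq_one, zpow_sub, e, zpow_one, mul_inv_cancel]
  obtain ⟨t, ht⟩ := e1
  rw [show j = (ℓ : ℤ) * t + 1 by omega, zpow_add, zpow_mul, zpow_natCast, hx', one_zpow, one_mul,
    zpow_one]

/-- A lifted family with the conjugations of the base. -/
theorem exists_lift_family {π : H →* A} (hπ : Function.Surjective π) (hker : ¬ ℓ ∣ Nat.card π.ker)
    {d : ℕ} (ι : Multiplicative (Fin d → ZMod ℓ) →* A) (hι : Function.Injective ι) :
    ∃ φ : Multiplicative (Fin d → ZMod ℓ) →* H, (∀ e, π (φ e) = ι e) ∧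
      ∀ e e', (∃ g : A, g * ι e * g⁻¹ = ι e') → ∃ c, c * φ e * c⁻¹ = φ e' := by
  obtain ⟨φ, hφ⟩ := exists_hom_lift hπ hker (k := d) (by simp [Nat.card_fun]) ι hι
  refine ⟨φ, hφ, fun e e' ⟨g, hg⟩ => ?_⟩
  by_cases he : e' = 1
  · subst he
    rw [map_one] at hg
    have : e = 1 := hι (by rw [map_one]; exact conj_eq_one_iff.1 hg)
    exact ⟨1, by simp [this]⟩
  have hp : ∀ f : Multiplicative (Fin d → ZMod ℓ), φ f ^ ℓ = 1 := fun f => by
    rw [← map_pow, show f ^ ℓ = 1 from
      Multiplicative.toAdd.injective (funext fun i => by simp), map_one]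
  obtain ⟨c, rfl⟩ := hπ g
  obtain ⟨k, hk⟩ := conj_of_image hπ hker (x := c * φ e * c⁻¹) (x' := φ e')
    (by rw [conj_pow, hp, mul_one, mul_inv_cancel]) (hp e')
    (by rw [map_mul, map_mul, map_inv, hφ, hφ, hg])
    (by rw [hφ]; exact fun h => he (hι (h.trans (map_one ι).symm)))
  exact ⟨k * c, by rw [← hk]; group⟩

end CfsgLib.E7Sections
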