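import Cfsg.Agent.E7Sections.NoAlt
import Cfsg.Agent.E7Sections.Embed
import Cfsg.Agent.ToralSection.Basic
import Cfsg.Agent.Chev.ToralChev

/-!
Alternating sections of the groups of type E₇.
-/

set_option autoImplicit false
set_option linter.style.haveILetI false

namespace CfsgLib.E7Sections

open Cfsg.Lie CfsgLib.Chev CfsgLib.Chev.Tab

/-- A field extension with roots of unity of orders `ℓ ^ 3` and `N`. -/
theorem exists_field {F : Type*} [Field F] [Fintype F] {p : ℕ} [CharP F p] {ℓ N : ℕ}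
    (hℓ : ℓ.Prime) (hN : N.Prime) (hℓp : p ≠ ℓ) (hNp : p ≠ N) :
    ∃ (K : Type) (_ : Field K) (_ : Fintype K) (_ : F →+* K) (z : K),
      (Fintype.card K : ZMod (ℓ ^ 3)) = 1 ∧ IsPrimitiveRoot z N := by
  classical
  set m := ℓ ^ 3 * N
  have hm : 0 < m := Nat.mul_pos (pow_pos hℓ.pos 3) hN.pos
  haveI : NeZero m.totient := ⟨(Nat.totient_pos.2 hm).ne'⟩
  have hco : Nat.Coprime (Fintype.card F) m :=
    Nat.Coprime.mul_right
      ((hℓ.coprime_iff_not_dvd.2 (Chev.not_dvd_card hℓ hℓp)).symm.pow_right 3)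
      (hN.coprime_iff_not_dvd.2 (Chev.not_dvd_card hN hNp)).symm
  obtain ⟨K, hKf, hKt, f, hK⟩ := Chev.Tab.Good.exists_field_ext (F := F) m.totient
  have hmod : Fintype.card K ≡ 1 [MOD m] := by rw [hK]; exact Nat.ModEq.pow_totient hco
  have hone : 1 ≤ Fintype.card K := Fintype.card_pos
  have hd : N ∣ Fintype.card Kˣ := by
    rw [Fintype.card_units]
    exact (Nat.modEq_iff_dvd' hone).1 (hmod.of_dvd (Dvd.intro_left _ rfl)).symm
  haveI := Fact.mk hN
  obtain ⟨u, hu⟩ := exists_prime_orderOf_dvd_card N hd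
  refine ⟨K, hKf, hKt, f, (u : K), ?_, ?_⟩
  · rw [← Nat.cast_one, ZMod.natCast_eq_natCast_iff]
    exact hmod.of_dvd (Dvd.intro _ rfl)
  · exact IsPrimitiveRoot.coe_units_iff.2 (hu ▸ IsPrimitiveRoot.orderOf u)

/-- Alternating sections of the groups of type E₇. -/
theorem alt_section {F : Type*} [Field F] [Fintype F] {p r : ℕ} [Fact p.Prime] [CharP F p]
    {H : Subgroup (chevE7.group F)} {π : H →* alternatingGroup (Fin r)} (hπ : Function.Surjective π) :
    r ≤ 13 + (if p = 7 then 1 else 0) := by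
  classical
  by_contra hr
  obtain ⟨N, hN, hNp⟩ : ∃ N, (N = 11 ∨ N = 13) ∧ p ≠ N := by
    by_cases h : p = 11
    · exact ⟨13, Or.inr rfl, by omega⟩
    · exact ⟨11, Or.inl rfl, h⟩
  have hNprime : N.Prime := by rcases hN with rfl | rfl <;> norm_num
  have transfer : ∀ n ≤ r, ∀ (K : Type) (_ : Field K) (_ : F →+* K),
      ∃ (X : Subgroup (GL chevE8.Idx K)) (π' : X →* alternatingGroup (Fin n)),
        X ≤ chevE8.group K ∧ Function.Surjective π' ∧
        (∀ x ∈ X, ∀ t : K, Commute x (good_E8.full.hr 239 t)) ∧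
        ∀ x ∈ X, ∀ t : K, Commute x (good_E8.full.x 239 t) := by
    intro n hn K _ f
    obtain ⟨H1, π1, hπ1⟩ := Chev.good_E7.exists_section_ext f hπ
    obtain ⟨H2, π2, hπ2⟩ := ToralSection.exists_alt_section hn hπ1
    exact exists_image H2 π2 hπ2
  by_cases h7 : p = 7
  · rw [if_pos h7] at hr
    obtain ⟨K, hKf, hKt, f, z, hq, hz⟩ :=
      exists_field (F := F) (p := p) (ℓ := 5) (by norm_num) hNprime (by omega) hNp
    haveI : CharP K p := charP_of_injective_ringHom f.injective p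
    obtain ⟨X, π', hX, hπ', hh, hu⟩ := transfer 15 (by omega) K hKf f
    exact no_fifteen (p := p) (by omega) hq hN (Ne.symm hNp) hz hX (fun x hx => hh x hx z)
      (fun x hx => hu x hx 1) π' hπ'
  · rw [if_neg h7] at hr
    obtain ⟨K, hKf, hKt, f, z, hq, hz⟩ :=
      exists_field (F := F) (p := p) (ℓ := 7) (by norm_num) hNprime h7 hNp
    haveI : CharP K p := charP_of_injective_ringHom f.injective p
    obtain ⟨X, π', hX, hπ', hh, hu⟩ := transfer 14 (by omega) K hKf f
    exact no_fourteen (p := p) h7 hq hN (Ne.symm hNp) hz hX (fun x hx => hh x hx z)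
      (fun x hx => hu x hx 1) π' hπ'

end CfsgLib.E7Sections
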