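import Cfsg.Agent.E7Sections.Torus
import Cfsg.Agent.E7Sections.Lift

/-!
No alternating section of degree 14 (or 15) in `E₈(q)` commuting with the root subgroup of the
highest root and its torus.
-/

set_option autoImplicit false
set_option linter.style.haveILetI false

namespace CfsgLib.E7Sections

open Cfsg.Lie CfsgLib.Chev CfsgLib.Chev.Tab CfsgLib.E8Three Matrix Module

theorem count_levels :
    (Finset.univ.filter fun i : chevE8.Idx => expLev i = 0).card = 134 ∧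
      (Finset.univ.filter fun i : chevE8.Idx => expLev i = 1).card = 56 := by decide +kernel

section Levels

variable {Ω : Type} [Field Ω] {ℓ d : ℕ} [Fact ℓ.Prime]

/-- The fixed dimensions of a commuting family in an eigenspace of a matrix. -/
theorem level_count {ζ : Ω} (hζ : IsPrimitiveRoot ζ ℓ) (hℓΩ : (ℓ : Ω) ≠ 0)
    (Hm : Matrix chevE8.Idx chevE8.Idx Ω)
    (ρ : Multiplicative (Fin d → ZMod ℓ) →* GL chevE8.Idx Ω)
    (hc : ∀ e, Commute (ρ e : Matrix chevE8.Idx chevE8.Idx Ω) Hm) (μ : Ω)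
    (Ls : List (Fin d → ZMod ℓ)) (c : ℕ)
    (hLs : ∀ w : Fin d → ZMod ℓ, w ≠ 0 → Ls.countP (fun e => decide (pr e w = 0)) = c) :
    ∃ f₀, f₀ ≤ finrank Ω (jsp Hm Hm μ μ) ∧
      (Ls.map fun e => finrank Ω (jsp Hm (ρ (Multiplicative.ofAdd e) : Matrix _ _ Ω) μ 1)).sum =
        f₀ * Ls.length + (finrank Ω (jsp Hm Hm μ μ) - f₀) * c := by
  set W : Submodule Ω (chevE8.Idx → Ω) := jsp Hm Hm μ μ
  have hmem : ∀ v, v ∈ W ↔ Hm *ᵥ v = μ • v := fun v => by rw [mem_jsp, and_self]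
  have hinv : ∀ e, ∀ v ∈ W, Matrix.toLin' (ρ e : Matrix chevE8.Idx chevE8.Idx Ω) v ∈ W :=
    fun e v hv => by
      rw [hmem] at hv ⊢
      rw [Matrix.toLin'_apply, mulVec_mulVec, ← (hc e).eq, ← mulVec_mulVec, hv, mulVec_smul]
  let P : Multiplicative (Fin d → ZMod ℓ) →* Module.End Ω W :=
    { toFun := fun e => (Matrix.toLin' (ρ e : Matrix chevE8.Idx chevE8.Idx Ω)).restrict (hinv e)
      map_one' := LinearMap.ext fun v => Subtype.ext (by simp)
      map_mul' := fun e f => LinearMap.ext fun v => Subtype.ext (by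
        simp [Matrix.toLin'_apply, mulVec_mulVec]) }
  have hfix : ∀ e, finrank Ω (fixSp P e) =
      finrank Ω (jsp Hm (ρ (Multiplicative.ofAdd e) : Matrix chevE8.Idx chevE8.Idx Ω) μ 1) := by
    intro e
    rw [← Submodule.finrank_map_subtype_eq W (fixSp P e)]
    refine congrArg (fun S : Submodule Ω (chevE8.Idx → Ω) => finrank Ω S) ?_
    ext v
    rw [Submodule.mem_map, mem_jsp, one_smul]
    constructor
    · rintro ⟨w, hw, rfl⟩
      refine ⟨(hmem _).1 w.2, ?_⟩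
      rw [fixSp, LinearMap.mem_ker, LinearMap.sub_apply, Module.End.one_apply, sub_eq_zero] at hw
      exact congrArg Subtype.val hw
    · rintro ⟨h1, h2⟩
      refine ⟨⟨v, (hmem v).2 h1⟩, ?_, rfl⟩
      rw [fixSp, LinearMap.mem_ker, LinearMap.sub_apply, Module.End.one_apply, sub_eq_zero]
      exact Subtype.ext h2
  obtain ⟨f₀, hf, hsum⟩ := fix_count hζ P hℓΩ Ls c hLs
  exact ⟨f₀, hf, by rw [← hsum]; simp only [hfix]⟩

end Levels

variable {K : Type} [Field K] [Fintype K]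

/-- The two situations: `ℓ = 7` in degree 14 and `ℓ = 5` in degree 15. -/
structure Data (ℓ d n g : ℕ) (tbl : List (ℕ × ℕ)) [Fact ℓ.Prime] where
  ι : Multiplicative (Fin d → ZMod ℓ) →* alternatingGroup (Fin (n + 1))
  inj : Function.Injective ι
  Ls : List (Fin d → ZMod ℓ)
  c : ℕ
  count : ∀ w : Fin d → ZMod ℓ, w ≠ 0 → Ls.countP (fun e => decide (pr e w = 0)) = c
  nonzero : ∀ e ∈ Ls, e ≠ 0
  power : ∀ e ∈ Ls, ∃ x : alternatingGroup (Fin (n + 1)),
    x * ι (Multiplicative.ofAdd e) * x⁻¹ = ι (Multiplicative.ofAdd (g • e))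
  ℓ_eq : ℓ = 5 ∨ ℓ = 7
  n_ge : 13 ≤ n
  g_unit : ¬ ℓ ∣ g
  chk : chkTable ℓ g tbl = true

/-- The fixed dimensions of the elements of a family, with their invariance and the two counts. -/
theorem fix_system {p : ℕ} [Fact p.Prime] [CharP K p] {ℓ d n g : ℕ} [Fact ℓ.Prime]
    {tbl : List (ℕ × ℕ)} (D : Data ℓ d n g tbl) (hℓp : ℓ ≠ p)
    (hq : (Fintype.card K : ZMod (ℓ ^ 3)) = 1) {N : ℕ} (hN : N = 11 ∨ N = 13) (hNp : N ≠ p)
    {z : K} (hz : IsPrimitiveRoot z N)
    {X : Subgroup (GL chevE8.Idx K)} (hX : X ≤ chevE8.group K)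
    (hXh : ∀ x ∈ X, Commute x (good_E8.full.hr 239 z))
    (hXu : ∀ x ∈ X, Commute x (good_E8.full.x 239 1))
    (π₀ : X →* alternatingGroup (Fin (n + 1))) (hπ₀ : Function.Surjective π₀) :
    ∃ (F₀ F₁ : (Fin d → ZMod ℓ) → ℕ),
      (∀ e ∈ D.Ls, (F₀ e, F₁ e) ∈ tbl) ∧
      (∀ e e', (∃ x : alternatingGroup (Fin (n + 1)),
        x * D.ι (Multiplicative.ofAdd e) * x⁻¹ = D.ι (Multiplicative.ofAdd e')) →
          F₀ e = F₀ e' ∧ F₁ e = F₁ e') ∧
      (∃ f ≤ 134, (D.Ls.map F₀).sum = f * D.Ls.length + (134 - f) * D.c) ∧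
      (∃ f ≤ 56, (D.Ls.map F₁).sum = f * D.Ls.length + (56 - f) * D.c) := by
  classical
  have hℓ : ℓ.Prime := Fact.out
  have hp : p.Prime := Fact.out
  have hℓeq := D.ℓ_eq
  -- a minimal subgroup
  let S : Set ℕ := {c | ∃ (H : Subgroup (GL chevE8.Idx K))
    (π : H →* alternatingGroup (Fin (n + 1))), H ≤ X ∧ Function.Surjective π ∧ Nat.card H = c}
  obtain ⟨H, π, hHX, hπ, hcard⟩ : sInf S ∈ S := Nat.sInf_mem ⟨_, X, π₀, le_rfl, hπ₀, rfl⟩
  have hL : ∀ L : Subgroup H, L.map π = ⊤ → L = ⊤ := by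
    intro L h
    let e := L.equivMapOfInjective H.subtype H.subtype_injective
    have hs : Function.Surjective (π.comp L.subtype) := fun a => by
      obtain ⟨y, hy, rfl⟩ := (h.symm ▸ Subgroup.mem_top a : a ∈ L.map π)
      exact ⟨(⟨y, hy⟩ : L), rfl⟩
    have h1 : sInf S ≤ Nat.card (L.map H.subtype) := Nat.sInf_le
      ⟨_, (π.comp L.subtype).comp e.symm.toMonoidHom, (Subgroup.map_subtype_le L).trans hHX,
        hs.comp e.symm.surjective, rfl⟩
    rw [Subgroup.card_map_of_injective H.subtype_injective, ← hcard] at h1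
    exact Subgroup.eq_top_of_card_eq L (le_antisymm (Subgroup.card_le_card_group L) h1)
  have hker : ¬ ℓ ∣ Nat.card π.ker := ker_prime_to hℓeq hq D.n_ge (hHX.trans hX) π hπ hL
  obtain ⟨φ, hφ, hconj⟩ := exists_lift_family hπ hker D.ι D.inj
  -- the representation over the closure
  set f := algebraMap K (AlgebraicClosure K) with hfdef
  haveI : CharP (AlgebraicClosure K) p := charP_of_injective_ringHom f.injective p
  have hℓΩ : (ℓ : AlgebraicClosure K) ≠ 0 :=
    AltSection.natCast_ne_zero_of_prime hp hℓ (Ne.symm hℓp)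
  obtain ⟨ζ, hζ⟩ := AltSection.exists_root hℓΩ
  let ψ : H →* GL chevE8.Idx (AlgebraicClosure K) := (glMap chevE8 f).comp H.subtype
  set hh := glMap chevE8 f (good_E8.full.hr 239 z)
  let F : AlgebraicClosure K → (Fin d → ZMod ℓ) → ℕ := fun μ e =>
    finrank (AlgebraicClosure K) (jsp (hh : Matrix chevE8.Idx chevE8.Idx _)
      (ψ (φ (Multiplicative.ofAdd e)) : Matrix chevE8.Idx chevE8.Idx _) μ 1)
  have hcomm : ∀ x : H, Commute (ψ x : Matrix chevE8.Idx chevE8.Idx (AlgebraicClosure K)) hh :=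
    fun x => Commute.units_val ((hXh x (hHX x.2)).map (glMap chevE8 f))
  have hzN : IsPrimitiveRoot (f z) N := hz.map_of_injective f.injective
  have hz0 : z ≠ 0 := hz.ne_zero (by omega)
  have hdim : ∀ k : ℤ, k = 0 ∨ k = 1 →
      finrank (AlgebraicClosure K) (jsp (hh : Matrix chevE8.Idx chevE8.Idx _) hh (f z ^ k) (f z ^ k)) =
        (Finset.univ.filter fun i : chevE8.Idx => expLev i = k).card := by
    intro k hk
    rw [show (hh : Matrix chevE8.Idx chevE8.Idx (AlgebraicClosure K)) =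
      diagonal fun i => f z ^ expLev i from glMap_hr_top f hz0, finrank_jsp_diag]
    refine congrArg Finset.card (Finset.filter_congr fun i _ => ?_)
    rw [and_self, zpow_eq_iff hzN (by omega)]
    refine ⟨fun ⟨t, ht⟩ => ?_, fun e => by simp [e]⟩
    have := expLev_bound i
    rcases hN with rfl | rfl <;> omega
  refine ⟨F 1, F (f z), fun e he => ?_, fun e e' h => ?_, ?_, ?_⟩
  · obtain ⟨c, hc⟩ := hconj _ _ (D.power e he)
    rw [ofAdd_nsmul, map_pow, mul_inv_eq_iff_eq_mul] at hc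
    have hc' : (c : GL chevE8.Idx K) * (φ (Multiplicative.ofAdd e) : H) =
        ((φ (Multiplicative.ofAdd e) : H) : GL chevE8.Idx K) ^ g * (c : GL chevE8.Idx K) := by
      exact_mod_cast hc
    have hx1 : ((φ (Multiplicative.ofAdd e) : H) : GL chevE8.Idx K) ≠ 1 := fun h => by
      have h1 : φ (Multiplicative.ofAdd e) = 1 := Subtype.ext h
      have h2 := hφ (Multiplicative.ofAdd e)
      rw [h1, map_one, ← map_one D.ι] at h2
      exact D.nonzero e he (congrArg Multiplicative.toAdd (D.inj h2)).symm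
    have hxℓ : ((φ (Multiplicative.ofAdd e) : H) : GL chevE8.Idx K) ^ ℓ = 1 := by
      rw [← Subgroup.coe_pow, ← map_pow, ← ofAdd_nsmul, show ℓ • e = 0 from funext fun i => by simp,
        ofAdd_zero, map_one, Subgroup.coe_one]
    exact torus_spec hℓp (by omega) D.g_unit D.chk hN hNp (by omega) hz
      (hX (hHX (φ _).2)) hxℓ hx1 (hXh _ (hHX (φ _).2)) (hXu _ (hHX (φ _).2))
      (hXh _ (hHX c.2)) hc' f rfl
  · obtain ⟨c, hc⟩ := hconj _ _ h
    have e1 : (ψ c : Matrix chevE8.Idx chevE8.Idx (AlgebraicClosure K)) *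
        (ψ (φ (Multiplicative.ofAdd e)) : Matrix chevE8.Idx chevE8.Idx (AlgebraicClosure K)) =
          (ψ (φ (Multiplicative.ofAdd e')) : Matrix chevE8.Idx chevE8.Idx (AlgebraicClosure K)) *
            (ψ c : Matrix chevE8.Idx chevE8.Idx (AlgebraicClosure K)) := by
      rw [← Units.val_mul, ← Units.val_mul, ← map_mul, ← map_mul, mul_inv_eq_iff_eq_mul.1 hc]
    exact ⟨finrank_jsp_conj (ψ c) (hcomm c).eq e1 _ _, finrank_jsp_conj (ψ c) (hcomm c).eq e1 _ _⟩
  · obtain ⟨f₀, hf, hsum⟩ := level_count hζ hℓΩ hh (ψ.comp φ) (fun e => hcomm _) (f z ^ (0 : ℤ))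
      D.Ls D.c D.count
    rw [hdim 0 (Or.inl rfl), count_levels.1] at hf hsum
    rw [_root_.zpow_zero] at hsum
    exact ⟨f₀, hf, hsum⟩
  · obtain ⟨f₀, hf, hsum⟩ := level_count hζ hℓΩ hh (ψ.comp φ) (fun e => hcomm _) (f z ^ (1 : ℤ))
      D.Ls D.c D.count
    rw [hdim 1 (Or.inr rfl), count_levels.2] at hf hsum
    rw [_root_.zpow_one] at hsum
    exact ⟨f₀, hf, hsum⟩

/-- The data in degree fourteen. -/
noncomputable def data7 [Fact (Nat.Prime 7)] : Data 7 2 13 3 [(20, 8), (32, 2), (38, 20)] where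
  ι := iot7
  inj := iot_injective _ _
  Ls := lines7
  c := 1
  count := lines7_count
  nonzero := nonzero_seven
  power := fun e he => Rel.conj eqv7 odd_seven (rel_pow_seven he)
  ℓ_eq := Or.inr rfl
  n_ge := le_rfl
  g_unit := by decide
  chk := table_seven

/-- The data in degree fifteen. -/
noncomputable def data5 [Fact (Nat.Prime 5)] : Data 5 3 14 2 [(34, 16)] where
  ι := iot5
  inj := iot_injective _ _
  Ls := lines5
  c := 6
  count := lines5_count
  nonzero := nonzero_five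
  power := fun e he => Rel.conj eqv5 odd_five (rel_pow_five he)
  ℓ_eq := Or.inl rfl
  n_ge := by norm_num
  g_unit := by decide
  chk := table_five

/-- No section of degree fifteen. -/
theorem no_fifteen {p : ℕ} [Fact p.Prime] [CharP K p] (hp5 : p ≠ 5)
    (hq : (Fintype.card K : ZMod (5 ^ 3)) = 1) {N : ℕ} (hN : N = 11 ∨ N = 13) (hNp : N ≠ p)
    {z : K} (hz : IsPrimitiveRoot z N)
    {X : Subgroup (GL chevE8.Idx K)} (hX : X ≤ chevE8.group K)
    (hXh : ∀ x ∈ X, Commute x (good_E8.full.hr 239 z))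
    (hXu : ∀ x ∈ X, Commute x (good_E8.full.x 239 1))
    (π₀ : X →* alternatingGroup (Fin 15)) (hπ₀ : Function.Surjective π₀) : False := by
  haveI := Fact.mk (show Nat.Prime 5 by norm_num)
  obtain ⟨F₀, F₁, htbl, -, -, f, hf, hsum⟩ :=
    fix_system data5 (Ne.symm hp5) hq hN hNp hz hX hXh hXu π₀ hπ₀
  have h : lines5.map F₁ = lines5.map fun _ => 16 := List.map_congr_left fun e he => by
    simpa using congrArg Prod.snd (List.mem_singleton.1 (htbl e he))
  rw [show data5.Ls = lines5 from rfl, h, List.map_const', List.sum_replicate, lines5_length,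
    show data5.c = 6 from rfl, smul_eq_mul] at hsum
  omega

/-- No section of degree fourteen. -/
theorem no_fourteen {p : ℕ} [Fact p.Prime] [CharP K p] (hp7 : p ≠ 7)
    (hq : (Fintype.card K : ZMod (7 ^ 3)) = 1) {N : ℕ} (hN : N = 11 ∨ N = 13) (hNp : N ≠ p)
    {z : K} (hz : IsPrimitiveRoot z N)
    {X : Subgroup (GL chevE8.Idx K)} (hX : X ≤ chevE8.group K)
    (hXh : ∀ x ∈ X, Commute x (good_E8.full.hr 239 z))
    (hXu : ∀ x ∈ X, Commute x (good_E8.full.x 239 1))
    (π₀ : X →* alternatingGroup (Fin 14)) (hπ₀ : Function.Surjective π₀) : False := by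
  haveI := Fact.mk (show Nat.Prime 7 by norm_num)
  obtain ⟨F₀, F₁, htbl, hinv, ⟨f, hf, hsum⟩, f', hf', hsum'⟩ :=
    fix_system data7 (Ne.symm hp7) hq hN hNp hz hX hXh hXu π₀ hπ₀
  have hclass : ∀ e r : Fin 2 → ZMod 7, (∃ c ∈ cands7, ∀ i, e (c.1 i) = c.2 i * r i) →
      F₀ e = F₀ r ∧ F₁ e = F₁ r := fun e r ⟨c, hc, h⟩ => by
    obtain ⟨x, hx⟩ := Rel.conj eqv7 odd_seven (e := r) (e' := e) ⟨c.1, c.2, sign_cands7 c hc, h⟩
    exact ⟨(hinv r e ⟨x, hx⟩).1.symm, (hinv r e ⟨x, hx⟩).2.symm⟩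
  have ha := htbl ![1, 0] mem_seven.1
  have hb := htbl ![1, 1] mem_seven.2
  have h01 := hclass ![0, 1] ![1, 0] class_axis
  have hk : ∀ e ∈ ([![1, 2], ![1, 3], ![1, 4], ![1, 5], ![1, 6]] : List (Fin 2 → ZMod 7)),
      F₀ e = F₀ ![1, 1] ∧ F₁ e = F₁ ![1, 1] := fun e he => hclass e _ (class_diag e he)
  obtain ⟨h2, h2'⟩ := hk ![1, 2] (by simp)
  obtain ⟨h3, h3'⟩ := hk ![1, 3] (by simp)
  obtain ⟨h4, h4'⟩ := hk ![1, 4] (by simp)
  obtain ⟨h5, h5'⟩ := hk ![1, 5] (by simp)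
  obtain ⟨h6, h6'⟩ := hk ![1, 6] (by simp)
  rw [show data7.Ls = lines7 from rfl, show data7.c = 1 from rfl] at hsum hsum'
  simp only [lines7, List.map_cons, List.map_nil, List.sum_cons, List.sum_nil, List.length_cons,
    List.length_nil, h01.1, h01.2, h2, h2', h3, h3', h4, h4', h5, h5', h6, h6'] at hsum hsum'
  simp only [List.mem_cons, List.not_mem_nil, or_false, Prod.mk.injEq] at ha hb
  omega

end CfsgLib.E7Sections
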