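import Cfsg.Agent.E8Three.Sylow
import Cfsg.Agent.E8Three.ToralMain
import Cfsg.Agent.E8Three.E8Lam
import Cfsg.Agent.Chev.CoxeterData
import Cfsg.Agent.Chev.GoodAll

/-!
Elementary abelian sections of `ℓ`-subgroups of `E₈(q)` for `q ≡ 1` modulo a high power of `ℓ`
have rank at most `8` plus the exponent of `ℓ` in the order of the Weyl group.
-/

set_option autoImplicit false
set_option linter.style.haveILetI false

namespace CfsgLib.E7Sections

open Cfsg.Lie CfsgLib.Chev CfsgLib.Chev.Tab CfsgLib.E8Three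

theorem card_WJ8 :
    Nat.card (good_E8.full.WJ (jList chevE8 Set.univ)) = 696729600 := by
  rw [show jList chevE8 Set.univ = List.range chevE8.rank by simp [jList]]
  exact (good_E8.card_weyl E8Data.levels_ok).trans weylCard_E8

theorem fac_W (ℓ : ℕ) [Fact ℓ.Prime] (hℓ : ℓ = 5 ∨ ℓ = 7) :
    (696729600 : ℕ).factorization ℓ ≤ 2 := by
  have hℓp : ℓ.Prime := Fact.out
  by_contra h
  have h3 : ℓ ^ 3 ∣ 696729600 := (hℓp.pow_dvd_iff_le_factorization (by norm_num)).mpr (by omega)
  rcases hℓ with rfl | rfl <;> revert h3 <;> decide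

/-- An elementary abelian image of a subgroup of a torus of rank `r`. -/
theorem card_image_torus {K : Type} [Field K] [Fintype K] {r ℓ : ℕ} [Fact ℓ.Prime]
    (A : Subgroup (Fin r → Kˣ)) {U : Type} [CommGroup U] (hU : ∀ u : U, u ^ ℓ = 1) (φ : A →* U) :
    Nat.card φ.range ≤ ℓ ^ r := by
  classical
  set P : A →* A := powMonoidHom ℓ
  have hle : P.range ≤ φ.ker := by
    rintro _ ⟨x, rfl⟩
    rw [MonoidHom.mem_ker, powMonoidHom_apply, map_pow, hU]
  have h1 : Nat.card φ.range ∣ P.range.index := by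
    rw [← Subgroup.index_ker]
    exact Subgroup.index_dvd_of_le hle
  have h2 : P.range.index = Nat.card P.ker := by
    have e1 := P.ker.card_mul_index
    have e2 := P.range.card_mul_index
    rw [Subgroup.index_ker] at e1
    rw [← e1, mul_comm (Nat.card P.ker)] at e2
    exact Nat.eq_of_mul_eq_mul_left Nat.card_pos e2
  let ψ : P.ker → (Fin r → rootsOfUnity ℓ K) := fun x i =>
    ⟨((x : A) : Fin r → Kˣ) i, (mem_rootsOfUnity' ℓ _).mpr (by
      have := congrArg (fun y : A => ((y : Fin r → Kˣ) i : K)) (MonoidHom.mem_ker.mp x.2)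
      simpa [P] using this)⟩
  have hψ : Function.Injective ψ := fun x y h => Subtype.ext (Subtype.ext (funext fun i =>
    congrArg Subtype.val (congrFun h i)))
  haveI : NeZero ℓ := ⟨(Fact.out : ℓ.Prime).ne_zero⟩
  have h3 : Nat.card P.ker ≤ ℓ ^ r := by
    refine (Nat.card_le_card_of_injective ψ hψ).trans ?_
    rw [Nat.card_fun, Nat.card_fin]
    exact Nat.pow_le_pow_left (card_rootsOfUnity K ℓ) r
  exact (Nat.le_of_dvd (h2 ▸ Nat.card_pos) h1).trans (h2 ▸ h3)

/-- The rank of an elementary abelian section. -/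
theorem card_section_le {K : Type} [Field K] [Fintype K] {ℓ k₀ : ℕ} [Fact ℓ.Prime]
    (hW : (696729600 : ℕ).factorization ℓ ≤ k₀)
    (hq : (Fintype.card K : ZMod (ℓ ^ (k₀ + 1))) = 1) {U : Type} [CommGroup U] [Finite U]
    (hU : ∀ u : U, u ^ ℓ = 1) (O : Subgroup (GL chevE8.Idx K)) (hO : O ≤ chevE8.group K)
    (hp : IsPGroup ℓ O) (f : O →* U) (hf : Function.Surjective f) : Nat.card U ≤ ℓ ^ (8 + k₀) := by
  classical
  have hℓp : ℓ.Prime := Fact.out
  obtain ⟨a, -, ha⟩ := conj_into_mJ good_E8 Set.univ (K := K) (e := k₀ + 1) (R := O)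
    (by rw [card_WJ8]; omega) hq (fun g hg => group_le_levi_univ good_E8 (hO hg)) hp
  let ι : O →* mJ E8Data.tab good_E8.full K Set.univ :=
    ((MulAut.conj a).toMonoidHom.comp O.subtype).codRestrict _ fun s => ha s s.2
  let g := (permHom good_E8 Set.univ).comp ι
  have hgW : g.range ≤ good_E8.full.WJ (jList chevE8 Set.univ) := by
    rintro _ ⟨s, rfl⟩
    exact (mJ_act good_E8 (ι s).2).choose_spec.1
  obtain ⟨k, hk⟩ := IsPGroup.iff_card.mp (hp.of_surjective g.rangeRestrict g.rangeRestrict_surjective)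
  have hk2 : k ≤ k₀ := by
    have h := Subgroup.card_dvd_of_le hgW
    rw [hk, card_WJ8, hℓp.pow_dvd_iff_le_factorization (by norm_num)] at h
    omega
  have hinj : Function.Injective (E8Data.tab.hT K) := (injective_iff_map_eq_one _).mpr fun a ha =>
    good_E8.sc_hT_inj InvolData.scE8 ha
  have hdiag : ∀ s : g.ker, ∃ c, E8Data.tab.hT K c = a * ((s : O) : GL chevE8.Idx K) * a⁻¹ := by
    intro s
    have h := permHom_ker good_E8 (g := ι s.1) s.2
    rw [good_E8.full.diagonal_eq_range] at h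
    exact h
  choose c hc using hdiag
  let χ : g.ker →* (Fin chevE8.rank → Kˣ) := MonoidHom.mk' c fun s t => hinj (by
    rw [map_mul, hc, hc, hc, Subgroup.coe_mul, Subgroup.coe_mul]
    group)
  have hχ : Function.Injective χ := fun s t h => Subtype.ext (Subtype.ext (by
    have := congrArg (E8Data.tab.hT K) h
    rw [show χ s = c s from rfl, show χ t = c t from rfl, hc, hc] at this
    exact mul_left_cancel (mul_right_cancel this)))
  let φ : χ.range →* U :=
    (f.comp g.ker.subtype).comp (MonoidHom.ofInjective hχ).symm.toMonoidHom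
  have hrange : φ.range = g.ker.map f := by
    ext u
    constructor
    · rintro ⟨x, rfl⟩
      exact ⟨_, ((MonoidHom.ofInjective hχ).symm x).2, rfl⟩
    · rintro ⟨x, hx, rfl⟩
      exact ⟨MonoidHom.ofInjective hχ ⟨x, hx⟩, by simp [φ]⟩
  have h8 := card_image_torus χ.range hU φ
  rw [hrange] at h8
  have hi : (g.ker.map f).index ≤ ℓ ^ k₀ := by
    refine (Nat.le_of_dvd (Nat.pos_of_ne_zero Subgroup.index_ne_zero_of_finite)
      (Subgroup.index_map_dvd _ hf)).trans ?_
    rw [Subgroup.index_ker, hk]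
    exact Nat.pow_le_pow_right hℓp.pos hk2
  calc Nat.card U = Nat.card (g.ker.map f) * (g.ker.map f).index := (Subgroup.card_mul_index _).symm
    _ ≤ ℓ ^ chevE8.rank * ℓ ^ k₀ := Nat.mul_le_mul h8 hi
    _ = ℓ ^ (8 + k₀) := by rw [← pow_add]; rfl

end CfsgLib.E7Sections
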