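import Cfsg.Agent.E7Sections.Weights
import Cfsg.Agent.E7Sections.Count
import Cfsg.Agent.AltSection.Cases
import Mathlib.FieldTheory.IsAlgClosed.AlgebraicClosure

/-!
The fixed dimensions in the degrees 0 and 1 of an element of `E₈` commuting with the root
`SL₂` of the highest root.
-/

set_option autoImplicit false
set_option linter.style.haveILetI false

namespace CfsgLib.E7Sections

open Cfsg.Lie CfsgLib.Chev CfsgLib.Chev.Tab CfsgLib.E8Three Matrix Module

variable {Ω : Type} [Field Ω]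

/-- A joint eigenspace of two matrices. -/
noncomputable def jsp (A B : Matrix chevE8.Idx chevE8.Idx Ω) (μ η : Ω) :
    Submodule Ω (chevE8.Idx → Ω) :=
  LinearMap.ker (Matrix.toLin' A - μ • 1) ⊓ LinearMap.ker (Matrix.toLin' B - η • 1)

theorem mem_jsp {A B : Matrix chevE8.Idx chevE8.Idx Ω} {μ η : Ω} {v : chevE8.Idx → Ω} :
    v ∈ jsp A B μ η ↔ A *ᵥ v = μ • v ∧ B *ᵥ v = η • v := by
  simp [jsp, sub_eq_zero, Matrix.toLin'_apply]

open scoped Classical in
theorem finrank_jsp_diag (l l' : chevE8.Idx → Ω) (μ η : Ω) :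
    finrank Ω (jsp (diagonal l) (diagonal l') μ η) =
      (Finset.univ.filter fun x => l x = μ ∧ l' x = η).card := by
  set S := Finset.univ.filter fun x => l x = μ ∧ l' x = η
  have hm : ∀ v, v ∈ jsp (diagonal l) (diagonal l') μ η ↔ ∀ x, v x ≠ 0 → x ∈ S := by
    intro v
    rw [mem_jsp]
    simp only [funext_iff, mulVec_diagonal, Pi.smul_apply, smul_eq_mul, S, Finset.mem_filter,
      Finset.mem_univ, true_and]
    constructor
    · exact fun h x hx => ⟨mul_right_cancel₀ hx (h.1 x), mul_right_cancel₀ hx (h.2 x)⟩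
    · intro h
      constructor <;> intro x <;> by_cases hx : v x = 0
      · simp [hx]
      · rw [(h x hx).1]
      · simp [hx]
      · rw [(h x hx).2]
  let e : jsp (diagonal l) (diagonal l') μ η ≃ₗ[Ω] (S → Ω) :=
    { toFun := fun v x => v.1 x.1
      invFun := fun f => ⟨fun x => if h : x ∈ S then f ⟨x, h⟩ else 0, (hm _).mpr fun x hx => by
        by_contra h; exact hx (dif_neg h)⟩
      left_inv := fun v => Subtype.ext (funext fun x => by
        show (if h : x ∈ S then v.1 x else 0) = v.1 x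
        split_ifs with h
        · rfl
        · by_contra h0
          exact h ((hm v.1).mp v.2 x (Ne.symm h0)))
      right_inv := fun f => funext fun x => by simp
      map_add' := fun v w => rfl
      map_smul' := fun c v => rfl }
  rw [e.finrank_eq, Module.finrank_fintype_fun_eq_card, Fintype.card_coe]

theorem finrank_jsp_conj (P : GL chevE8.Idx Ω) {A B A' B' : Matrix chevE8.Idx chevE8.Idx Ω}
    (hA : (P : Matrix chevE8.Idx chevE8.Idx Ω) * A = A' * P)
    (hB : (P : Matrix chevE8.Idx chevE8.Idx Ω) * B = B' * P) (μ η : Ω) :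
    finrank Ω (jsp A B μ η) = finrank Ω (jsp A' B' μ η) := by
  let e : (chevE8.Idx → Ω) ≃ₗ[Ω] (chevE8.Idx → Ω) :=
    LinearEquiv.ofLinear (Matrix.toLin' (P : Matrix chevE8.Idx chevE8.Idx Ω))
      (Matrix.toLin' ((P⁻¹ : GL chevE8.Idx Ω) : Matrix chevE8.Idx chevE8.Idx Ω))
      (by rw [← Matrix.toLin'_mul, Units.mul_inv, Matrix.toLin'_one])
      (by rw [← Matrix.toLin'_mul, Units.inv_mul, Matrix.toLin'_one])
  have he : ∀ v, e v = (P : Matrix chevE8.Idx chevE8.Idx Ω) *ᵥ v := fun v => rfl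
  have hiff : ∀ {C C' : Matrix chevE8.Idx chevE8.Idx Ω} {ν : Ω},
      (P : Matrix chevE8.Idx chevE8.Idx Ω) * C = C' * P →
      ∀ v, C *ᵥ v = ν • v ↔ C' *ᵥ (e v) = ν • e v := by
    intro C C' ν h v
    have e2 : C' *ᵥ (e v) = e (C *ᵥ v) := by rw [he, he, mulVec_mulVec, mulVec_mulVec, h]
    rw [e2, ← map_smul, e.injective.eq_iff]
  have hmap : (jsp A B μ η).map (e : (chevE8.Idx → Ω) →ₗ[Ω] chevE8.Idx → Ω) = jsp A' B' μ η := by
    ext w
    rw [Submodule.mem_map_equiv, mem_jsp, mem_jsp, hiff hA, hiff hB, LinearEquiv.apply_symm_apply]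
  rw [← hmap]
  exact (e.submoduleMap _).finrank_eq

/-- Exponents of a torus element of order dividing `n`. -/
theorem exists_expVec {n : ℕ} [NeZero n] {ξ : Ω} (hξ : IsPrimitiveRoot ξ n)
    {d : Fin chevE8.rank → Ωˣ} (hdn : E8Data.tab.hT Ω d ^ n = 1) :
    ∃ b : Fin chevE8.rank → ℤ, (E8Data.tab.hT Ω d : Matrix chevE8.Idx chevE8.Idx Ω) =
      diagonal fun i => ξ ^ expVec b i := by
  have hinj : Function.Injective (E8Data.tab.hT Ω) := (injective_iff_map_eq_one _).mpr fun a ha =>
    good_E8.sc_hT_inj InvolData.scE8 ha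
  have hd : d ^ n = 1 := hinj (by rw [map_pow, hdn, map_one])
  have hb : ∀ j : Fin chevE8.rank, ∃ b : ℤ,
      ξ ^ b = (E8Data.tab.chi (F := Ω) (chevE8.simple j) d : Ω) := fun j => by
    obtain ⟨b, -, hb⟩ := hξ.eq_pow_of_pow_eq_one
      (ξ := (E8Data.tab.chi (F := Ω) (chevE8.simple j) d : Ω)) (by
        rw [← Units.val_pow_eq_pow_val, ← map_pow, hd, map_one, Units.val_one])
    exact ⟨b, by rw [_root_.zpow_natCast]; exact hb⟩
  choose b hb using hb
  let ξu : Ωˣ := (hξ.isUnit (NeZero.ne n)).unit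
  have hξu : (ξu : Ω) = ξ := rfl
  have hpow : ∀ z : ℤ, ((ξu ^ z : Ωˣ) : Ω) = ξ ^ z := fun z => by
    rw [Units.val_zpow_eq_zpow_val, hξu]
  obtain ⟨B, hB⟩ := exists_cochar good_E8 InvolData.scE8
  obtain ⟨w, hw, -⟩ := hB b
  have hdw : d = Good.expo ξu w := by
    refine funext fun k => ?_
    rw [← sc_recover InvolData.scE8 d k, ← sc_recover InvolData.scE8 (Good.expo ξu w) k]
    refine Finset.prod_congr rfl fun j _ => ?_
    congr 1
    refine Units.ext ?_
    rw [Good.chi_expo, hw, hpow, hb]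
  refine ⟨b, ?_⟩
  rw [E8Data.tab.coe_hT]
  refine congrArg Matrix.diagonal (funext fun i => ?_)
  rcases i with i | r
  · simp [expVec]
  · simp only [Sum.elim_inr, expVec]
    rw [hdw, Good.chi_expo, hpow, dot_eq_val]
    exact congrArg (fun c => ξ ^ val c r) (funext hw)

theorem pair_top : ((List.range 240).map fun r => E8Data.tab.pairT 239 r) =
    (List.range 240).map fun r => E8Data.tab.cor r 7 := by decide +kernel

/-- The torus of the highest root is diagonal with the degree as exponent. -/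
theorem hr_top {F : Type*} [Field F] {z : F} (hz : z ≠ 0) :
    ((good_E8.full.hr 239 z : GL chevE8.Idx F) : Matrix chevE8.Idx chevE8.Idx F) =
      diagonal fun x => z ^ expLev x := by
  rw [good_E8.full.hr_torus (show 239 < chevE8.nroots by decide) hz, Full.torus]
  refine congrArg Matrix.diagonal (funext fun b => ?_)
  rcases b with j | s
  · simp [expLev]
  · simp only [Sum.elim_inr, expLev, lev]
    rw [map_range_inj pair_top (show s.val < 240 from s.isLt)]

theorem lev_bound : ∀ r < 240, E8Data.tab.cor r 7 ∈ ([-2, -1, 0, 1, 2] : List ℤ) ∧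
    (E8Data.tab.cor r 7 = -2 → r = 0) := by decide +kernel

theorem expLev_bound (x : chevE8.Idx) : -2 ≤ expLev x ∧ expLev x ≤ 2 := by
  rcases x with i | r
  · simp [expLev]
  · have := (lev_bound r.val r.isLt).1
    simp only [List.mem_cons, List.not_mem_nil, or_false] at this
    show -2 ≤ lev r ∧ lev r ≤ 2
    unfold lev
    omega

theorem lev_two {x : chevE8.Idx} (h : expLev x = 2) : x = Sum.inr ⟨239, by decide⟩ := by
  rcases x with i | r
  · simp [expLev] at h
  · exact congrArg Sum.inr (Fin.ext (top8_facts.2.1 r.val r.isLt h))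

theorem lev_neg_two {x : chevE8.Idx} (h : expLev x = -2) : x = Sum.inr ⟨0, by decide⟩ := by
  rcases x with i | r
  · simp [expLev] at h
  · exact congrArg Sum.inr (Fin.ext ((lev_bound r.val r.isLt).2 h))

theorem top_neg_facts : chevE8.negIdx.getD 239 0 = 0 ∧ E8Data.tab.cor 0 7 = -2 ∧
    (List.range 8).map (fun j => E8Data.tab.cor 0 j) =
      (List.range 8).map (fun j => -E8Data.tab.cor 239 j) := by decide +kernel

theorem root_entry {F : Type*} [Field F] :
    ((good_E8.full.x 239 (1 : F) : GL chevE8.Idx F) : Matrix chevE8.Idx chevE8.Idx F)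
      (Sum.inr ⟨239, by decide⟩) (Sum.inr ⟨0, by decide⟩) = -1 := by
  rw [good_E8.full.coe_x']
  unfold ChevalleyDatum.x
  rw [dif_pos (show 239 < chevE8.nroots by decide)]
  simp only [ChevalleyDatum.xMat, Matrix.of_apply]
  rw [if_neg (by simp [Fin.ext_iff]), if_pos top_neg_facts.1.symm, if_neg (by simp [Fin.ext_iff])]
  simp

theorem zpow_eq_iff {n : ℕ} {ξ : Ω} (hξ : IsPrimitiveRoot ξ n) (hn : n ≠ 0) (a b : ℤ) :
    ξ ^ a = ξ ^ b ↔ (n : ℤ) ∣ a - b := by
  rw [← hξ.zpow_eq_one_iff_dvd, zpow_sub₀ (hξ.ne_zero hn),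
    div_eq_one_iff_eq (zpow_ne_zero _ (hξ.ne_zero hn))]

theorem kac_level : ((kac 11).all fun a =>
      !(mvec 11 a == [134, 56, 1, 0, 0, 0, 0, 0, 0, 1, 56]) || a == [0, 0, 0, 0, 0, 0, 0, 1]) = true ∧
    ((kac 13).all fun a =>
      !(mvec 13 a == [134, 56, 1, 0, 0, 0, 0, 0, 0, 0, 0, 1, 56]) ||
        a == [0, 0, 0, 0, 0, 0, 0, 1]) = true ∧
    mvec 11 [0, 0, 0, 0, 0, 0, 0, 1] = [134, 56, 1, 0, 0, 0, 0, 0, 0, 1, 56] ∧
    mvec 13 [0, 0, 0, 0, 0, 0, 0, 1] = [134, 56, 1, 0, 0, 0, 0, 0, 0, 0, 0, 1, 56] := by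
  decide +kernel

theorem natVec_top : ∀ r : Fin chevE8.nroots, val (natVec [0, 0, 0, 0, 0, 0, 0, 1]) r = lev r := by
  intro r
  rw [val, Finset.sum_eq_single (⟨7, by decide⟩ : Fin chevE8.rank)]
  · simp [natVec, lev]
  · intro j _ hj
    have hj7 : j.val < 7 := by
      have : j.val < 8 := j.isLt
      have : j.val ≠ 7 := fun e => hj (Fin.ext e)
      omega
    have : ([0, 0, 0, 0, 0, 0, 0, 1] : List ℕ).getD j.val 0 = 0 := by interval_cases j.val <;> rfl
    rw [List.getD_eq_getElem?_getD] at this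
    simp [natVec, this]
  · simp

/-- A cochar with the counts of the degree is the degree up to a permutation of the roots. -/
theorem level_reduce {N : ℕ} (hN : N = 11 ∨ N = 13) (v : Fin chevE8.rank → ℤ)
    (hv : ∀ k : ℕ, k < N → cnt N v k = cnt N (natVec [0, 0, 0, 0, 0, 0, 0, 1]) k)
    (b : Fin chevE8.rank → ℤ) :
    ∃ (σ : Equiv.Perm (Fin chevE8.nroots)) (b' : Fin chevE8.rank → ℤ),
      (∀ r, (N : ℤ) ∣ val v (σ r) - lev r) ∧ ∀ r, val b' r = val b (σ r) := by
  have hN0 : 0 < N := by omega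
  obtain ⟨B, hB⟩ := exists_cochar good_E8 InvolData.scE8
  obtain ⟨w, hw, -⟩ := hB v
  obtain ⟨a, ha, σ, hσ, hdiv⟩ := kac_reduce_aux N hN0 _ w rfl
  have hv' : ∀ r, E8Data.tab.wrow r.val ⬝ᵥ w = val v r := fun r => by
    rw [dot_eq_val]
    exact congrArg (fun c => val c r) (funext hw)
  -- the permuted cochar
  have hlin : ∀ b : Fin chevE8.rank → ℤ, ∃ b' : Fin chevE8.rank → ℤ,
      ∀ r, val b' r = val b (σ r) := by
    intro b
    obtain ⟨wb, hwb, -⟩ := hB b
    obtain ⟨L, -, hL⟩ := good_E8.exists_word_WJ (inv_mem hσ)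
    refine ⟨fun j => E8Data.tab.wrow (chevE8.simple j) ⬝ᵥ (E8Data.tab.vM L *ᵥ wb), fun r => ?_⟩
    rw [← dot_eq_val, dotProduct_mulVec]
    have e := good_E8.wrow_pw L (σ r)
    rw [show good_E8.full.pw L (σ r) = r by rw [hL]; simp] at e
    rw [e, dot_eq_val]
    exact congrArg (fun c => val c (σ r)) (funext hwb)
  obtain ⟨v', hv''⟩ := hlin v
  have hcong : ∀ j, (N : ℤ) ∣ v' j - natVec a j := fun j => by
    have h := hdiv (good_E8.full.simp' j)
    rw [hv'] at h
    have e : ∀ c, val c (good_E8.full.simp' j) = c j := fun c => by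
      simp only [val, good_E8.cor_simple]
      simp
    rw [← hv'', e, e, dvd_sub_comm] at h
    exact h
  have hvec : ∀ k : ℕ, k < N → cnt N (natVec a) k = cnt N v k := fun k hk => by
    rw [← cnt_congr hcong, cnt_perm σ hv'']
  have ha' : a = [0, 0, 0, 0, 0, 0, 0, 1] := by
    have hm : mvec N a = mvec N [0, 0, 0, 0, 0, 0, 0, 1] := by
      refine List.ext_getElem (by simp [mvec]) fun k h1 h2 => ?_
      have hk : k < N := by simpa [mvec] using h1
      rw [← List.getD_eq_getElem _ 0 h1, ← List.getD_eq_getElem _ 0 h2,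
        ← cnt_natVec hN0 (length_of_mem_kac ha) hk, ← cnt_natVec hN0 rfl hk, hvec k hk, hv k hk]
    rcases hN with rfl | rfl
    · have h := List.all_eq_true.mp kac_level.1 a ha
      rw [hm, kac_level.2.2.1] at h
      simpa using h
    · have h := List.all_eq_true.mp kac_level.2.1 a ha
      rw [hm, kac_level.2.2.2] at h
      simpa using h
  obtain ⟨b', hb'⟩ := hlin b
  refine ⟨σ, b', fun r => ?_, hb'⟩
  rw [← hv'', ← natVec_top r]
  exact val_congr (ha' ▸ hcong) r

/-- The matrix of a root torus element over an extension. -/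
theorem glMap_hr_top {K : Type} [Field K] (f : K →+* Ω) {z : K} (hz : z ≠ 0) :
    ((glMap chevE8 f (good_E8.full.hr 239 z) : GL chevE8.Idx Ω) :
      Matrix chevE8.Idx chevE8.Idx Ω) = diagonal fun x => f z ^ expLev x := by
  rw [glMap_coe, hr_top hz, RingHom.mapMatrix_apply, Matrix.diagonal_map (map_zero f)]
  exact congrArg Matrix.diagonal (funext fun x => map_zpow₀ f z _)

/-- The fixed dimensions in degree `0` and `1`. -/
theorem torus_spec {p : ℕ} [Fact p.Prime] {K : Type} [Field K] [Fintype K] [CharP K p]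
    {ℓ g : ℕ} [Fact ℓ.Prime] {tbl : List (ℕ × ℕ)} (hℓp : ℓ ≠ p) (hℓ2 : ℓ ≠ 2)
    (hg : ¬ ℓ ∣ g) (hchk : chkTable ℓ g tbl = true)
    {N : ℕ} (hN : N = 11 ∨ N = 13) (hNp : N ≠ p) (hNℓ : N ≠ ℓ) {z : K} (hz : IsPrimitiveRoot z N)
    {x c : GL chevE8.Idx K} (hx : x ∈ chevE8.group K) (hxℓ : x ^ ℓ = 1) (hx1 : x ≠ 1)
    (hxh : Commute x (good_E8.full.hr 239 z)) (hxu : Commute x (good_E8.full.x 239 1))
    (hch : Commute c (good_E8.full.hr 239 z)) (hcx : c * x = x ^ g * c)
    (f : K →+* AlgebraicClosure K) (hf : f = algebraMap K (AlgebraicClosure K)) :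
    (finrank (AlgebraicClosure K) (jsp
        ((glMap chevE8 f (good_E8.full.hr 239 z) : GL chevE8.Idx _) : Matrix chevE8.Idx chevE8.Idx (AlgebraicClosure K))
        ((glMap chevE8 f x : GL chevE8.Idx _) : Matrix chevE8.Idx chevE8.Idx (AlgebraicClosure K)) 1 1),
      finrank (AlgebraicClosure K) (jsp
        ((glMap chevE8 f (good_E8.full.hr 239 z) : GL chevE8.Idx _) : Matrix chevE8.Idx chevE8.Idx (AlgebraicClosure K))
        ((glMap chevE8 f x : GL chevE8.Idx _) : Matrix chevE8.Idx chevE8.Idx (AlgebraicClosure K)) (f z) 1)) ∈ tbl := by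
  classical
  have hℓ : ℓ.Prime := Fact.out
  have hp : p.Prime := Fact.out
  have hNprime : N.Prime := by rcases hN with rfl | rfl <;> norm_num
  have hN0 : N ≠ 0 := hNprime.ne_zero
  haveI : NeZero N := ⟨hN0⟩
  haveI : NeZero ℓ := ⟨hℓ.ne_zero⟩
  have hz0 : z ≠ 0 := hz.ne_zero hN0
  set h := good_E8.full.hr 239 z with hdef
  have hh : h ∈ chevE8.group K := by
    rw [hdef, good_E8.full.hr_eq_hT (show 239 < chevE8.nroots by decide) hz0]
    exact good_E8.diagonal_le_group (by rw [good_E8.full.diagonal_eq_range]; exact ⟨_, rfl⟩)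
  have hhN : h ^ N = 1 := by
    refine Units.ext ?_
    rw [Units.val_pow_eq_pow_val, hdef, hr_top hz0, diagonal_pow, Units.val_one, ← diagonal_one]
    refine congrArg Matrix.diagonal (funext fun i => ?_)
    rw [Pi.pow_apply, ← _root_.zpow_natCast, ← _root_.zpow_mul, mul_comm, _root_.zpow_mul,
      _root_.zpow_natCast, hz.pow_eq_one, _root_.one_zpow]
  have hpm : ¬ p ∣ ℓ * N := fun hd => (hp.dvd_mul.mp hd).elim
    (fun h => hℓp ((Nat.prime_dvd_prime_iff_eq hp hℓ).mp h).symm)
    (fun h => hNp ((Nat.prime_dvd_prime_iff_eq hp hNprime).mp h).symm)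
  have hym : (x * h) ^ (ℓ * N) = 1 := by
    rw [hxh.mul_pow, pow_mul x, hxℓ, one_pow, one_mul, mul_comm ℓ, pow_mul, hhN, one_pow]
  obtain ⟨F, hF, hF', f₁, a, -, c₀, hconj⟩ :=
    toral good_E8 p InvolData.scE8 sepE8 hpm (mul_mem hx hh) hym
  letI := f₁.toAlgebra
  haveI : Module.Finite K F := Module.Finite.of_finite
  let φ : F →+* AlgebraicClosure K :=
    (IsAlgClosed.lift (R := K) (S := F) (M := AlgebraicClosure K)).toRingHom
  have hφ : φ.comp f₁ = f := by
    rw [hf]
    exact RingHom.ext fun r =>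
      (IsAlgClosed.lift (R := K) (S := F) (M := AlgebraicClosure K)).commutes r
  set A := glMap chevE8 φ a
  set d₀ := fun i => Units.map φ.toMonoidHom (c₀ i)
  have hconjΩ : A * glMap chevE8 f (x * h) * A⁻¹ = E8Data.tab.hT _ d₀ := by
    rw [← hφ, ← glMap_comp, ← good_E8.glMap_hT, ← hconj]
    simp only [map_mul, map_inv, A]
  obtain ⟨e₁, he₁ℓ, he₁N⟩ := Nat.chineseRemainder
    ((Nat.coprime_primes hℓ hNprime).mpr (Ne.symm hNℓ)) 1 0
  obtain ⟨e₂, he₂ℓ, he₂N⟩ := Nat.chineseRemainder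
    ((Nat.coprime_primes hℓ hNprime).mpr (Ne.symm hNℓ)) 0 1
  have hxe : ∀ e : ℕ, ∀ i j : ℕ, e ≡ i [MOD ℓ] → e ≡ j [MOD N] →
      (x * h) ^ e = x ^ i * h ^ j := fun e i j hi hj => by
    rw [hxh.mul_pow, pow_eq_pow_mod e hxℓ, pow_eq_pow_mod e hhN, hi, hj, ← pow_eq_pow_mod i hxℓ,
      ← pow_eq_pow_mod j hhN]
  have hx' : A * glMap chevE8 f x * A⁻¹ = E8Data.tab.hT _ (d₀ ^ e₁) := by
    rw [map_pow, ← hconjΩ, conj_pow, ← map_pow, hxe e₁ 1 0 he₁ℓ he₁N, pow_one, pow_zero, mul_one]
  have hh' : A * glMap chevE8 f h * A⁻¹ = E8Data.tab.hT _ (d₀ ^ e₂) := by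
    rw [map_pow, ← hconjΩ, conj_pow, ← map_pow, hxe e₂ 0 1 he₂ℓ he₂N, pow_one, pow_zero, one_mul]
  haveI : CharP (AlgebraicClosure K) p := charP_of_injective_ringHom f.injective p
  have hℓK : (ℓ : AlgebraicClosure K) ≠ 0 :=
    AltSection.natCast_ne_zero_of_prime hp hℓ (Ne.symm hℓp)
  obtain ⟨ξ, hξ⟩ := AltSection.exists_root hℓK
  have hfz : IsPrimitiveRoot (f z) N := hz.map_of_injective f.injective
  obtain ⟨b, hb⟩ := exists_expVec hξ (d := d₀ ^ e₁) (by
    rw [← hx', conj_pow, ← map_pow, hxℓ, map_one, mul_one, mul_inv_cancel])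
  obtain ⟨v, hv⟩ := exists_expVec hfz (d := d₀ ^ e₂) (by
    rw [← hh', conj_pow, ← map_pow, hhN, map_one, mul_one, mul_inv_cancel])
  set H := ((glMap chevE8 f h : GL chevE8.Idx _) : Matrix chevE8.Idx chevE8.Idx (AlgebraicClosure K)) with hHdef
  set X := ((glMap chevE8 f x : GL chevE8.Idx _) : Matrix chevE8.Idx chevE8.Idx (AlgebraicClosure K)) with hXdef
  have hH : H = diagonal fun i => f z ^ expLev i := glMap_hr_top f hz0
  have hAX : (A : Matrix chevE8.Idx chevE8.Idx (AlgebraicClosure K)) * X = (diagonal fun i => ξ ^ expVec b i) * A := by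
    rw [← hb, ← hx', ← Units.val_mul, ← Units.val_mul, inv_mul_cancel_right]
  have hAH : (A : Matrix chevE8.Idx chevE8.Idx (AlgebraicClosure K)) * H = (diagonal fun i => f z ^ expVec v i) * A := by
    rw [← hv, ← hh', ← Units.val_mul, ← Units.val_mul, inv_mul_cancel_right]
  have hjoint : ∀ (k : ℤ) (η : AlgebraicClosure K), finrank (AlgebraicClosure K) (jsp H X (f z ^ k) η) =
      (Finset.univ.filter fun i => f z ^ expVec v i = f z ^ k ∧ ξ ^ expVec b i = η).card :=
    fun k η => by rw [finrank_jsp_conj A hAH hAX, finrank_jsp_diag]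
  -- the degree
  have hcnt : ∀ k : ℕ, k < N → cnt N v k = cnt N (natVec [0, 0, 0, 0, 0, 0, 0, 1]) k := by
    intro k _
    have e : finrank (AlgebraicClosure K) (jsp H H (f z ^ (k : ℤ)) (f z ^ (k : ℤ))) = finrank (AlgebraicClosure K) (jsp
        (diagonal fun i => f z ^ expVec v i) (diagonal fun i => f z ^ expVec v i)
        (f z ^ (k : ℤ)) (f z ^ (k : ℤ))) := finrank_jsp_conj A hAH hAH _ _
    rw [hH, finrank_jsp_diag, finrank_jsp_diag] at e
    simp only [and_self, zpow_eq_iff hfz hN0] at e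
    rw [cnt, cnt, ← e]
    refine congrArg Finset.card (Finset.filter_congr fun i _ => ?_)
    rcases i with i | r
    · rfl
    · show (N : ℤ) ∣ lev r - k ↔ (N : ℤ) ∣ val _ r - k
      rw [natVec_top]
  obtain ⟨σ, b', hσv, hσb⟩ := level_reduce hN v hcnt b
  have hlevN : ∀ (i : chevE8.Idx) (k : ℤ), -2 ≤ k → k ≤ 2 →
      ((N : ℤ) ∣ expLev i - k ↔ expLev i = k) := fun i k h1 h2 => by
    refine ⟨fun hd => ?_, fun e => by simp [e]⟩
    have := expLev_bound i
    obtain ⟨t, ht⟩ := hd
    rcases hN with rfl | rfl <;> omega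
  have hcount : ∀ (k : ℤ) (η : AlgebraicClosure K), -2 ≤ k → k ≤ 2 →
      finrank (AlgebraicClosure K) (jsp H X (f z ^ k) η) =
        (Finset.univ.filter fun i => expLev i = k ∧ ξ ^ expVec b' i = η).card := by
    intro k η h1 h2
    rw [hjoint]
    refine (Finset.card_equiv (Equiv.sumCongr (Equiv.refl _) σ) fun i => ?_).symm
    simp only [Finset.mem_filter, Finset.mem_univ, true_and]
    rw [zpow_eq_iff hfz hN0, ← hlevN i k h1 h2]
    rcases i with i | r
    · rfl
    · show ((N : ℤ) ∣ lev r - k ∧ ξ ^ val b' r = η) ↔ (N : ℤ) ∣ val v (σ r) - k ∧ ξ ^ val b (σ r) = η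
      rw [hσb]
      refine and_congr_left fun _ => dvd_iff_dvd_of_dvd_sub ?_
      rw [dvd_sub_comm]
      simpa using hσv r
  have hjc : ∀ (k : ℤ) (c : ℤ), -2 ≤ k → k ≤ 2 →
      finrank (AlgebraicClosure K) (jsp H X (f z ^ k) (ξ ^ c)) = jcnt ℓ b' k c := fun k c h1 h2 => by
    rw [hcount k _ h1 h2, jcnt]
    simp only [zpow_eq_iff hξ hℓ.ne_zero]
  -- the invariance
  set C := ((glMap chevE8 f c : GL chevE8.Idx _) : Matrix chevE8.Idx chevE8.Idx (AlgebraicClosure K))
  set X' := ((glMap chevE8 f (x ^ g) : GL chevE8.Idx _) : Matrix chevE8.Idx chevE8.Idx (AlgebraicClosure K)) with hX'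
  have hCH : C * H = H * C := by
    rw [← Units.val_mul, ← Units.val_mul, ← map_mul, ← map_mul, hch.eq]
  have hCX : C * X = X' * C := by
    rw [← Units.val_mul, ← Units.val_mul, ← map_mul, ← map_mul, hcx]
  have hAX' : (A : Matrix chevE8.Idx chevE8.Idx (AlgebraicClosure K)) * X' = (diagonal fun i => ξ ^ ((g : ℤ) * expVec b i)) * A := by
    have e : (diagonal fun i => ξ ^ ((g : ℤ) * expVec b i)) =
        (diagonal fun i => ξ ^ expVec b i) ^ g := by
      rw [diagonal_pow]
      refine congrArg Matrix.diagonal (funext fun i => ?_)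
      rw [Pi.pow_apply, ← _root_.zpow_natCast, ← _root_.zpow_mul, mul_comm]
    rw [e, ← hb, ← hx', ← Units.val_pow_eq_pow_val, conj_pow, ← map_pow, ← Units.val_mul,
      ← Units.val_mul, inv_mul_cancel_right]
  have hinv : ∀ lv : ℤ, lv = 0 ∨ lv = 1 → ∀ c' : ℕ,
      jcnt ℓ b' lv ((g * c' : ℕ)) = jcnt ℓ b' lv c' := by
    intro lv hlv c'
    rw [← hjc lv _ (by omega) (by omega), ← hjc lv _ (by omega) (by omega),
      finrank_jsp_conj (glMap chevE8 f c) hCH hCX (f z ^ lv) (ξ ^ ((g * c' : ℕ) : ℤ)),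
      finrank_jsp_conj A hAH hAX' (f z ^ lv), finrank_jsp_diag, hjoint]
    refine congrArg Finset.card (Finset.filter_congr fun i _ => and_congr_right fun _ => ?_)
    rw [zpow_eq_iff hξ hℓ.ne_zero, zpow_eq_iff hξ hℓ.ne_zero, Nat.cast_mul, ← mul_sub]
    exact ⟨fun hd => ((Int.Prime.dvd_mul' hℓ hd).resolve_left fun h =>
      hg (Int.natCast_dvd_natCast.mp h)), fun hd => hd.mul_left _⟩
  -- the highest root
  have htop : (ℓ : ℤ) ∣ val b' ⟨239, by decide⟩ := by
    set P : chevE8.Idx := Sum.inr ⟨239, by decide⟩ with hPdef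
    set M : chevE8.Idx := Sum.inr ⟨0, by decide⟩ with hMdef
    have hP : expLev P = 2 := top8_facts.1
    have hM : expLev M = -2 := top_neg_facts.2.1
    have hblock : ∀ i j, expLev i ≠ expLev j → X i j = 0 := by
      intro i j hne
      have e : H * X = X * H := by
        rw [← Units.val_mul, ← Units.val_mul, ← map_mul, ← map_mul, hxh.eq]
      have e' := congrFun (congrFun e i) j
      rw [hH, diagonal_mul, mul_diagonal, mul_comm] at e'
      by_contra h0
      have h' := mul_left_cancel₀ h0 e'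
      rw [zpow_eq_iff hfz hN0] at h'
      have := expLev_bound j
      exact hne ((hlevN i (expLev j) this.1 this.2).mp h')
    set U := ((glMap chevE8 f (good_E8.full.x 239 1) : GL chevE8.Idx _) :
      Matrix chevE8.Idx chevE8.Idx (AlgebraicClosure K))
    have hU : U P M = -1 := by
      show f (((good_E8.full.x 239 (1 : K) : GL chevE8.Idx K) : Matrix chevE8.Idx chevE8.Idx K) P M) = -1
      rw [root_entry, map_neg, map_one]
    have hUX : U * X = X * U := by
      rw [← Units.val_mul, ← Units.val_mul, ← map_mul, ← map_mul, hxu.eq]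
    have hcol : ∀ (k : chevE8.Idx) (lv : ℤ), expLev k = lv → (lv = 2 ∨ lv = -2) →
        ∀ j, expLev j = lv → j = k := by
      rintro k lv hk (rfl | rfl) j hj
      · rw [lev_two hj, lev_two hk]
      · rw [lev_neg_two hj, lev_neg_two hk]
    have hsame : X P P = X M M := by
      have e := congrFun (congrFun hUX P) M
      rw [mul_apply, mul_apply, Finset.sum_eq_single M, Finset.sum_eq_single P] at e
      · rw [hU] at e
        linear_combination e
      · intro k _ hk
        rw [hblock P k fun h => hk (hcol P 2 hP (Or.inl rfl) k (h.symm.trans hP)), zero_mul]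
      · simp
      · intro k _ hk
        rw [hblock k M fun h => hk (hcol M (-2) hM (Or.inr rfl) k (h.trans hM)), mul_zero]
      · simp
    have heig : ∀ (q : chevE8.Idx) (lv : ℤ), expLev q = lv → (lv = 2 ∨ lv = -2) →
        ξ ^ expVec b' q = X q q := by
      intro q lv hq hlv
      have hmem : Pi.single q (1 : AlgebraicClosure K) ∈ jsp H X (f z ^ lv) (X q q) := by
        rw [mem_jsp]
        refine ⟨funext fun i => ?_, funext fun i => ?_⟩
        · rw [hH, mulVec_single, Pi.smul_apply, Pi.smul_apply, smul_eq_mul]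
          by_cases hi : i = q
          · subst hi
            simp [hq]
          · simp [hi]
        · rw [mulVec_single, Pi.smul_apply, Pi.smul_apply, smul_eq_mul]
          by_cases hi : i = q
          · subst hi
            simp
          · simp [hi, hblock i q fun h => hi (hcol q lv hq hlv i (h.trans hq))]
      have hpos : 0 < finrank (AlgebraicClosure K) (jsp H X (f z ^ lv) (X q q)) := by
        rw [Module.finrank_pos_iff_exists_ne_zero]
        exact ⟨⟨_, hmem⟩, fun h => one_ne_zero (α := AlgebraicClosure K)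
          (by simpa using congrFun (congrArg Subtype.val h) q)⟩
      rw [hcount lv _ (by omega) (by omega), Finset.card_pos] at hpos
      obtain ⟨i, hi⟩ := hpos
      simp only [Finset.mem_filter, Finset.mem_univ, true_and] at hi
      have e := hcol q lv hq hlv i hi.1
      rw [e] at hi
      exact hi.2
    have e1 := heig P 2 hP (Or.inl rfl)
    have e2 := heig M (-2) hM (Or.inr rfl)
    rw [hsame, ← e2, zpow_eq_iff hξ hℓ.ne_zero] at e1
    have hneg : val b' (⟨0, by decide⟩ : Fin chevE8.nroots) =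
        -val b' (⟨239, by decide⟩ : Fin chevE8.nroots) := by
      simp only [val, ← Finset.sum_neg_distrib]
      refine Finset.sum_congr rfl fun j _ => ?_
      rw [show E8Data.tab.cor (0 : ℕ) j.val = -E8Data.tab.cor 239 j.val from
        map_range_inj top_neg_facts.2.2 j.isLt, neg_mul]
    have h2 : (ℓ : ℤ) ∣ 2 * val b' ⟨239, by decide⟩ := by
      have e : expVec b' P - expVec b' M = 2 * val b' ⟨239, by decide⟩ := by
        show val b' _ - val b' _ = _
        rw [hneg]; ring
      rwa [e] at e1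
    refine (Int.Prime.dvd_mul' hℓ h2).resolve_left fun h => hℓ2 ?_
    exact (Nat.prime_dvd_prime_iff_eq hℓ Nat.prime_two).mp (by exact_mod_cast h)
  rcases lev_spec (hℓ.eq_two_or_odd'.resolve_left hℓ2) hchk b' htop hinv with hall | hmem
  · exfalso
    refine hx1 (glMap_injective f ?_)
    have h1 : ∀ i, ξ ^ expVec b i = 1 := fun i => by
      rcases i with i | r
      · simp [expVec]
      · show ξ ^ val b r = 1
        rw [hξ.zpow_eq_one_iff_dvd, ← Equiv.apply_symm_apply σ r, ← hσb]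
        exact hall _
    have e : E8Data.tab.hT _ (d₀ ^ e₁) = 1 := Units.ext (by
      rw [hb, Units.val_one, ← diagonal_one]
      exact congrArg Matrix.diagonal (funext h1))
    rw [e, mul_inv_eq_one, mul_eq_left] at hx'
    rw [hx', map_one]
  · rw [← hjc 0 0 (by norm_num) (by norm_num), ← hjc 1 0 (by norm_num) (by norm_num),
      _root_.zpow_zero, _root_.zpow_zero, _root_.zpow_one] at hmem
    exact hmem

end CfsgLib.E7Sections
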