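import Cfsg.Agent.E8Three.Spec.Elem

/-!
Exponent vectors of torus elements of `E₈` graded by the highest root: the reduction of the part
supported on `E₇` and the table of fixed multiplicities in the degrees 0 and 1.
-/

set_option autoImplicit false
set_option linter.style.haveILetI false

namespace CfsgLib.E7Sections

open Cfsg.Lie CfsgLib.Chev CfsgLib.Chev.Tab CfsgLib.E8Three Matrix

/-- The fundamental roots of `E₇` inside `E₈`. -/
def J7 : Set ℕ := {i | i < 7}

/-- The degree of a root. -/
def lev (r : Fin chevE8.nroots) : ℤ := E8Data.tab.cor r.val 7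

/-- The degree of a coordinate. -/
def expLev : chevE8.Idx → ℤ := Sum.elim (fun _ => 0) lev

/-- The number of coordinates of a given degree with a given residue. -/
def jcnt (n : ℕ) (b : Fin chevE8.rank → ℤ) (k c : ℤ) : ℕ :=
  (Finset.univ.filter fun x : chevE8.Idx => expLev x = k ∧ (n : ℤ) ∣ expVec b x - c).card

theorem lev_refl_eq : ((List.range 7).map fun i => (List.range 240).map fun r =>
      E8Data.tab.cor (E8Data.tab.reflT i r) 7) =
    (List.range 7).map fun _ => (List.range 240).map fun r => E8Data.tab.cor r 7 := by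
  decide +kernel

theorem lev_pw : ∀ (L : List (Fin chevE8.rank)), (∀ j ∈ L, j.val ∈ J7) →
    ∀ r, lev (good_E8.full.pw L r) = lev r := by
  intro L
  induction L with
  | nil => intro _ r; simp [Full.pw]
  | cons i L ih =>
    intro hL r
    rw [good_E8.pw_cons, Equiv.Perm.mul_apply]
    have hi : i.val < 7 := hL i List.mem_cons_self
    set s := good_E8.full.pw L r
    have h := map_range_inj (map_range_inj lev_refl_eq hi) (show s.val < 240 from s.isLt)
    exact h.trans (ih (fun j hj => hL j (List.mem_cons_of_mem _ hj)) r)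

/-- The coroot of the highest root of `E₇`. -/
def top7 : Fin chevE8.rank → ℤ := fun j => E8Data.tab.cor 226 j.val

/-- The pairing with the highest root of `E₇`. -/
def tp7 (r : ℕ) : ℤ := ((List.range 8).map fun j => E8Data.tab.cor 226 j * E8Data.tab.cart j r).sum

theorem top7_eq : ((List.range 8).map fun i => ((List.range 240).map fun r =>
      if E8Data.tab.cor r 7 = 0 then tp7 r * E8Data.tab.cart i r else 0).sum) =
    (List.range 8).map fun i => 36 * E8Data.tab.cart i 226 := by decide +kernel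

theorem top7_sq : ((List.range 240).map fun r =>
      if E8Data.tab.cor r 7 = 0 then tp7 r ^ 2 else 0).sum = 72 := by decide +kernel

theorem top7_dot (r : Fin chevE8.nroots) : E8Data.tab.wrow r.val ⬝ᵥ top7 = tp7 r.val := by
  rw [tp7, list_sum_range]
  exact Finset.sum_congr rfl fun j _ => mul_comm _ _

/-- The norm of an exponent vector on the roots of `E₇`. -/
def nrm7 (w : Fin chevE8.rank → ℤ) : ℤ :=
  ∑ r : Fin chevE8.nroots, if lev r = 0 then (E8Data.tab.wrow r.val ⬝ᵥ w) ^ 2 else 0

theorem nrm7_shift (w : Fin chevE8.rank → ℤ) (n : ℤ) :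
    nrm7 (w - n • top7) = nrm7 w - 72 * n * ((E8Data.tab.wrow 226 ⬝ᵥ w) - n) := by
  have e1 : ∑ r : Fin chevE8.nroots, (if lev r = 0 then
      (E8Data.tab.wrow r.val ⬝ᵥ top7) * (E8Data.tab.wrow r.val ⬝ᵥ w) else 0) =
      36 * (E8Data.tab.wrow 226 ⬝ᵥ w) := by
    simp only [dotProduct, Finset.mul_sum, ← mul_assoc]
    rw [Finset.sum_congr rfl (fun r (_ : r ∈ (Finset.univ : Finset (Fin chevE8.nroots))) =>
      show (if lev r = 0 then ∑ i : Fin chevE8.rank,
          (∑ j : Fin chevE8.rank, E8Data.tab.wrow r.val j * top7 j) *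
          E8Data.tab.wrow r.val i * w i else 0) =
        ∑ i : Fin chevE8.rank, (if lev r = 0 then tp7 r.val * E8Data.tab.cart i r.val else 0) * w i by
        rw [← top7_dot r]
        split_ifs
        · rfl
        · simp)]
    rw [Finset.sum_comm]
    refine Finset.sum_congr rfl fun i _ => ?_
    rw [← Finset.sum_mul]
    congr 1
    have h := map_range_inj top7_eq i.isLt
    rw [list_sum_range] at h
    exact h
  have e2 : ∑ r : Fin chevE8.nroots, (if lev r = 0 then
      (E8Data.tab.wrow r.val ⬝ᵥ top7) ^ 2 else 0) = 72 := by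
    have h := top7_sq
    rw [list_sum_range] at h
    refine Eq.trans (Finset.sum_congr rfl fun r _ => ?_) h
    rw [top7_dot]
    rfl
  simp only [nrm7, dotProduct_sub, dotProduct_smul, smul_eq_mul]
  rw [show ∑ r : Fin chevE8.nroots, (if lev r = 0 then (E8Data.tab.wrow r.val ⬝ᵥ w -
      n * (E8Data.tab.wrow r.val ⬝ᵥ top7)) ^ 2 else 0) =
      ∑ r : Fin chevE8.nroots, ((if lev r = 0 then (E8Data.tab.wrow r.val ⬝ᵥ w) ^ 2 else 0) -
        2 * n * (if lev r = 0 then
          (E8Data.tab.wrow r.val ⬝ᵥ top7) * (E8Data.tab.wrow r.val ⬝ᵥ w) else 0) +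
        n ^ 2 * (if lev r = 0 then (E8Data.tab.wrow r.val ⬝ᵥ top7) ^ 2 else 0)) from
      Finset.sum_congr rfl fun r _ => by split_ifs <;> ring,
    Finset.sum_add_distrib, Finset.sum_sub_distrib, ← Finset.mul_sum, ← Finset.mul_sum, e1, e2]
  ring

/-- The marks of the extended diagram of `E₇`. -/
def marks7 : List ℕ := [2, 2, 3, 4, 3, 2, 1]

theorem top7_cor : (List.range 7).map (fun j => E8Data.tab.cor 226 j) = marks7.map Int.ofNat ∧
    E8Data.tab.cor 226 7 = 0 := by decide +kernel

/-- The Kac coordinates of `E₇` for the elements of order dividing `n`. -/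
def kac7 (n : ℕ) : List (List ℕ) := kacAux marks7 n

theorem length_of_mem_kacAux : ∀ (ms : List ℕ) (n : ℕ) (a : List ℕ), a ∈ kacAux ms n →
    a.length = ms.length := by
  intro ms
  induction ms with
  | nil => intro n a h; simp [kacAux] at h; simp [h]
  | cons m ms ih =>
    intro n a h
    simp only [kacAux, List.mem_flatMap, List.mem_map] at h
    obtain ⟨x, -, l, hl, rfl⟩ := h
    simp [ih _ _ hl]

/-- Every exponent vector is equivalent on `E₇` to Kac coordinates. -/
theorem kac7_reduce_aux (n : ℕ) (hn : 0 < n) : ∀ (N : ℕ) (w : Fin chevE8.rank → ℤ),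
    (nrm7 w).toNat = N → ∃ L : List (Fin chevE8.rank), (∀ j ∈ L, j.val ∈ J7) ∧
      ∃ a ∈ kac7 n, ∀ j : Fin chevE8.rank, j.val < 7 →
        (n : ℤ) ∣ E8Data.tab.wrow (chevE8.simple j) ⬝ᵥ (E8Data.tab.vM L *ᵥ w) -
          (a.getD j.val 0 : ℕ) := by
  intro N
  induction N using Nat.strong_induction_on with
  | _ N ih =>
    intro w hN
    obtain ⟨L, hL, hdom⟩ := exists_dominant good_E8 (J := J7) w
    set w' := E8Data.tab.vM L *ᵥ w with hw'
    have hval : ∀ s, E8Data.tab.wrow (good_E8.full.pw L s).val ⬝ᵥ w' =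
        E8Data.tab.wrow s.val ⬝ᵥ w := fun s => by
      rw [dotProduct_mulVec, good_E8.wrow_pw L s]
    have hnrm : nrm7 w' = nrm7 w := by
      rw [nrm7, nrm7, ← Equiv.sum_comp (good_E8.full.pw L)
        fun r => if lev r = 0 then (E8Data.tab.wrow r.val ⬝ᵥ w') ^ 2 else 0]
      exact Finset.sum_congr rfl fun s _ => by rw [hval, lev_pw L hL]
    have htop : (226 : ℕ) < chevE8.nroots := by decide
    by_cases hle : E8Data.tab.wrow 226 ⬝ᵥ w' ≤ n
    · set b : Fin chevE8.rank → ℤ := fun j => E8Data.tab.wrow (chevE8.simple j) ⬝ᵥ w'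
      have hb0 : ∀ j : Fin chevE8.rank, j.val < 7 → 0 ≤ b j := fun j hj => hdom j hj
      let a : List ℕ := List.ofFn fun j : Fin 7 => (b ⟨j.val, show j.val < 8 by omega⟩).toNat
      refine ⟨L, hL, a, mem_kacAux _ _ _ (by decide) (List.length_ofFn.trans (by decide)) ?_,
        fun j hj => ?_⟩
      · have hsum := dot_eq_val ⟨226, htop⟩ w'
        simp only [val] at hsum
        rw [hsum, show Finset.univ (α := Fin chevE8.rank) = Finset.univ (α := Fin (7 + 1)) from rfl]
          at hle
        erw [Fin.sum_univ_castSucc] at hle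
        have e : (List.zipWith (· * ·) marks7 a).sum =
            ∑ j : Fin 7, marks7.getD j.val 0 * (b ⟨j.val, show j.val < 8 by omega⟩).toNat := by
          rw [show List.zipWith (· * ·) marks7 a = List.ofFn fun j : Fin 7 =>
            marks7.getD j.val 0 * (b ⟨j.val, show j.val < 8 by omega⟩).toNat from ?_, List.sum_ofFn]
          refine List.ext_getElem (by simp [marks7, a]) fun i h1 h2 => ?_
          simp only [a, List.getElem_zipWith, List.getElem_ofFn]
          rw [List.getD_eq_getElem]
        rw [e]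
        have h2 : ((∑ j : Fin 7, marks7.getD j.val 0 *
            (b ⟨j.val, show j.val < 8 by omega⟩).toNat : ℕ) : ℤ) ≤ n := by
          refine le_trans (le_of_eq ?_) hle
          rw [show (E8Data.tab.cor (226 : ℕ) (Fin.last 7).val) = 0 from top7_cor.2, zero_mul,
            add_zero]
          push_cast
          refine Finset.sum_congr rfl fun j _ => ?_
          have h := map_range_inj (n := 7) (f := fun j => E8Data.tab.cor 226 j)
            (g := fun j => ((marks7.getD j 0 : ℕ) : ℤ)) (top7_cor.1.trans (by decide)) j.isLt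
          congr 1
          · exact h.symm
          · exact Int.toNat_of_nonneg (hb0 _ j.isLt)
        exact_mod_cast h2
      · refine Dvd.intro 0 ?_
        rw [mul_zero, eq_comm, sub_eq_zero]
        rw [List.getD_eq_getElem _ _ (by rw [List.length_ofFn]; exact hj), List.getElem_ofFn]
        exact (Int.toNat_of_nonneg (hb0 j hj)).symm
    · have hlt : nrm7 (w' - (n : ℤ) • top7) < nrm7 w := by
        rw [nrm7_shift, hnrm]
        have : (0 : ℤ) < n := by exact_mod_cast hn
        nlinarith [not_le.mp hle]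
      have hnn : 0 ≤ nrm7 (w' - (n : ℤ) • top7) := Finset.sum_nonneg fun r _ => by
        split_ifs <;> positivity
      obtain ⟨L', hL', a, ha, hdiv⟩ := ih _ (by omega) (w' - (n : ℤ) • top7) rfl
      refine ⟨L' ++ L, fun j hj => (List.mem_append.mp hj).elim (hL' j) (hL j), a, ha,
        fun j hj => ?_⟩
      have h := hdiv j hj
      rw [vM_append, ← mulVec_mulVec, ← hw']
      rw [mulVec_sub, mulVec_smul, dotProduct_sub, dotProduct_smul, smul_eq_mul,
        sub_right_comm] at h
      simpa using dvd_add h (dvd_mul_right (n : ℤ)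
        (E8Data.tab.wrow (chevE8.simple j) ⬝ᵥ (E8Data.tab.vM L' *ᵥ top7)))

/-- The last coordinate making the highest root vanish. -/
def ext8 (n : ℕ) (a : List ℕ) : List ℕ :=
  a ++ [((n - ldot [2, 3, 4, 6, 5, 4, 3] a % n) * ((n + 1) / 2)) % n]

/-- The counts in degree 0 and degree 1. -/
def lvec (n : ℕ) (a : List ℕ) (k : ℕ) : ℕ × ℕ :=
  ((if k = 0 then 8 else 0) +
      posRoots.countP (fun p => p.getD 7 0 == 0 && ldot p a % n == k) +
      posRoots.countP (fun p => p.getD 7 0 == 0 && (n - ldot p a % n) % n == k),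
    posRoots.countP fun p => p.getD 7 0 == 1 && ldot p a % n == k)

/-- The check of the table of fixed multiplicities. -/
def chkTable (n g : ℕ) (tbl : List (ℕ × ℕ)) : Bool :=
  (kac7 n).all fun a =>
    !((List.range n).all fun k => lvec n (ext8 n a) (g * k % n) == lvec n (ext8 n a) k) ||
      (posRoots.all fun p => ldot p (ext8 n a) % n == 0) || tbl.contains (lvec n (ext8 n a) 0)

theorem table_seven : chkTable 7 3 [(20, 8), (32, 2), (38, 20)] = true := by decide +kernel

theorem table_five : chkTable 5 2 [(34, 16)] = true := by decide +kernel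

theorem lev_pos_eq : ((List.range 120).map fun s => E8Data.tab.cor (120 + s) 7) =
    posRoots.map (fun p => ((p.getD 7 0 : ℕ) : ℤ)) := by decide +kernel

theorem jcnt_natVec {n : ℕ} (hn : 0 < n) {a : List ℕ} (ha : a.length = 8) {k : ℕ} (hk : k < n) :
    (jcnt n (natVec a) 0 k, jcnt n (natVec a) 1 k) = lvec n a k := by
  classical
  have hsplit : ∀ lv : ℤ, jcnt n (natVec a) lv k =
      (Finset.univ.filter fun _x : Fin chevE8.rank => 0 = lv ∧ (n : ℤ) ∣ (0 : ℤ) - k).card +
      (Finset.univ.filter fun r : Fin chevE8.nroots =>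
        lev r = lv ∧ (n : ℤ) ∣ val (natVec a) r - k).card := fun lv => by
    rw [← Finset.card_disjSum]
    refine congrArg Finset.card (Finset.ext fun x => ?_)
    simp only [Finset.mem_filter, Finset.mem_univ, true_and, Finset.mem_disjSum]
    rcases x with i | r
    · exact ⟨fun h => Or.inl ⟨i, h, rfl⟩, fun h => by
        rcases h with ⟨j, hj, e⟩ | ⟨j, hj, e⟩
        · exact hj
        · simp at e⟩
    · exact ⟨fun h => Or.inr ⟨r, h, rfl⟩, fun h => by
        rcases h with ⟨j, hj, e⟩ | ⟨j, hj, e⟩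
        · simp at e
        · rw [← Sum.inr_injective e]; exact hj⟩
  have hh : ((Finset.univ.filter fun _x : Fin chevE8.rank =>
      (0 : ℤ) = 0 ∧ (n : ℤ) ∣ (0 : ℤ) - k).card) = if k = 0 then 8 else 0 := by
    by_cases h0 : k = 0
    · subst h0
      rw [if_pos rfl, Finset.filter_true_of_mem (fun _ _ => ⟨rfl, by simp⟩)]
      rfl
    · rw [if_neg h0, Finset.card_eq_zero, Finset.filter_eq_empty_iff]
      rintro i - ⟨-, hd⟩
      rw [zero_sub, dvd_neg, Int.natCast_dvd_natCast] at hd
      exact h0 (Nat.eq_zero_of_dvd_of_lt hd hk)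
  have hpos : ∀ m : ℕ, ((n : ℤ) ∣ (m : ℤ) - k ↔ m % n = k) ∧
      ((n : ℤ) ∣ -(m : ℤ) - k ↔ (n - m % n) % n = k) := by
    intro m
    have h1 : m % n < n := Nat.mod_lt _ hn
    refine ⟨?_, ?_⟩
    · rw [← Int.modEq_iff_dvd, Int.natCast_modEq_iff, Nat.ModEq, Nat.mod_eq_of_lt hk]
      exact eq_comm
    · rw [← Int.modEq_iff_dvd, show ((n - m % n) % n = k) ↔
        ((k : ℕ) : ℤ) ≡ ((n - m % n : ℕ) : ℤ) [ZMOD n] by
          rw [Int.natCast_modEq_iff, Nat.ModEq, Nat.mod_eq_of_lt hk]; exact eq_comm,
        Nat.cast_sub h1.le]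
      have : (-(m : ℤ)) ≡ (n : ℤ) - ((m % n : ℕ) : ℤ) [ZMOD n] :=
        Int.modEq_iff_dvd.mpr ⟨1 + (m : ℤ) / n, by
          rw [Int.natCast_mod]; linear_combination -Int.mul_ediv_add_emod (m : ℤ) n⟩
      exact ⟨fun h => h.trans this, fun h => h.trans this.symm⟩
  have hlevp : ∀ s, s < 120 → E8Data.tab.cor (120 + s) 7 =
        (((posRoots.getD s []).getD 7 0 : ℕ) : ℤ) ∧
      E8Data.tab.cor (119 - s) 7 = -((((posRoots.getD s []).getD 7 0 : ℕ)) : ℤ) := fun s hs =>
    cor_lit hs ⟨7, by decide⟩
  refine Prod.ext ?_ ?_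
  · show jcnt n (natVec a) 0 k = _
    rw [hsplit, hh, card_roots, lvec, countP_range, countP_range, add_assoc]
    refine congrArg (_ + ·) (congrArg₂ (· + ·) ?_ ?_)
    all_goals
      refine List.countP_congr fun s hs => ?_
      rw [List.mem_range] at hs
    · have h1 : 120 + s < chevE8.nroots := by show 120 + s < 240; omega
      have h2 : 119 - s < chevE8.nroots := by show 119 - s < 240; omega
      rw [dif_pos h1, decide_eq_true_eq, (val_pos_lit ha hs h1 h2).1, (hpos _).1, lev,
        (hlevp s hs).1, Bool.and_eq_true, beq_iff_eq, beq_iff_eq, Nat.cast_eq_zero]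
    · have h1 : 120 + s < chevE8.nroots := by show 120 + s < 240; omega
      have h2 : 119 - s < chevE8.nroots := by show 119 - s < 240; omega
      rw [dif_pos h2, decide_eq_true_eq, (val_pos_lit ha hs h1 h2).2, (hpos _).2, lev,
        (hlevp s hs).2, Bool.and_eq_true, beq_iff_eq, beq_iff_eq, neg_eq_zero, Nat.cast_eq_zero]
  · show jcnt n (natVec a) 1 k = _
    rw [hsplit, card_roots]
    simp only [lvec]
    rw [countP_range (fun p => p.getD 7 0 == 1 && ldot p a % n == k)]
    simp only [show ¬ ((0 : ℤ) = 1) by decide, false_and, Finset.filter_false, Finset.card_empty,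
      zero_add]
    rw [show (List.range 120).countP (fun s => if h : 119 - s < chevE8.nroots then
        decide (lev ⟨119 - s, h⟩ = 1 ∧ (n : ℤ) ∣ val (natVec a) ⟨119 - s, h⟩ - k) else false) = 0
      from List.countP_eq_zero.mpr fun s hs => by
        rw [List.mem_range] at hs
        have h2 : 119 - s < chevE8.nroots := by show 119 - s < 240; omega
        rw [dif_pos h2, decide_eq_true_eq, lev, (hlevp s hs).2]
        rintro ⟨h, -⟩
        omega, add_zero]
    refine List.countP_congr fun s hs => ?_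
    rw [List.mem_range] at hs
    have h1 : 120 + s < chevE8.nroots := by show 120 + s < 240; omega
    have h2 : 119 - s < chevE8.nroots := by show 119 - s < 240; omega
    rw [dif_pos h1, decide_eq_true_eq, (val_pos_lit ha hs h1 h2).1, (hpos _).1, lev,
      (hlevp s hs).1, Bool.and_eq_true, beq_iff_eq, beq_iff_eq, Nat.cast_eq_one]

theorem top8_facts : E8Data.tab.cor 239 7 = 2 ∧ (∀ r < 240, E8Data.tab.cor r 7 = 2 → r = 239) ∧
    (List.range 7).map (fun j => E8Data.tab.cor 239 j) =
      ([2, 3, 4, 6, 5, 4, 3] : List ℕ).map Int.ofNat := by decide +kernel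

/-- The table of fixed multiplicities. -/
theorem lev_spec {n g : ℕ} {tbl : List (ℕ × ℕ)} (hn : Odd n) (hchk : chkTable n g tbl = true)
    (b : Fin chevE8.rank → ℤ) (htop : (n : ℤ) ∣ val b ⟨239, by decide⟩)
    (hinv : ∀ lv : ℤ, lv = 0 ∨ lv = 1 → ∀ c : ℕ, jcnt n b lv ((g * c : ℕ)) = jcnt n b lv c) :
    (∀ r, (n : ℤ) ∣ val b r) ∨ (jcnt n b 0 0, jcnt n b 1 0) ∈ tbl := by
  classical
  have hn0 : 0 < n := hn.pos
  obtain ⟨B, hB⟩ := exists_cochar good_E8 InvolData.scE8
  obtain ⟨w, hw, -⟩ := hB b
  obtain ⟨L, hL, a, ha, hdiv⟩ := kac7_reduce_aux n hn0 _ w rfl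
  set σ := good_E8.full.pw L
  set b' : Fin chevE8.rank → ℤ := fun j =>
    E8Data.tab.wrow (chevE8.simple j) ⬝ᵥ (E8Data.tab.vM L *ᵥ w)
  have hb' : ∀ s, val b' (σ s) = val b s := fun s => by
    rw [← dot_eq_val, dotProduct_mulVec, good_E8.wrow_pw L s, dot_eq_val]
    exact congrArg (fun c => val c s) (funext hw)
  have hlen : a.length = 7 := length_of_mem_kacAux marks7 n a ha
  set a8 := ext8 n a with ha8
  have hlen8 : a8.length = 8 := by simp [ha8, ext8, hlen]
  -- the last coordinate
  have htop' : σ ⟨239, by decide⟩ = ⟨239, by decide⟩ := Fin.ext (top8_facts.2.1 _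
    (σ ⟨239, by decide⟩).isLt ((lev_pw L hL ⟨239, by decide⟩).trans top8_facts.1))
  have ht' : (n : ℤ) ∣ val b' ⟨239, by decide⟩ := by
    have := hb' ⟨239, by decide⟩
    rw [htop'] at this
    rw [this]; exact htop
  have hcong : ∀ j : Fin chevE8.rank, (n : ℤ) ∣ b' j - natVec a8 j := by
    have hlow : ∀ j : Fin chevE8.rank, j.val < 7 → (n : ℤ) ∣ b' j - natVec a8 j := fun j hj => by
      have e : a8.getD j.val 0 = a.getD j.val 0 := by
        rw [ha8, ext8, List.getD_append _ _ _ _ (by omega)]
      rw [natVec, e]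
      exact hdiv j hj
    intro j
    rcases Nat.lt_or_ge j.val 7 with hj | hj
    · exact hlow j hj
    · have hj7 : j = (Fin.last 7 : Fin (7 + 1)) := Fin.ext (by
        have : j.val < 8 := j.isLt
        simp
        omega)
      subst hj7
      rw [val] at ht'
      erw [Fin.sum_univ_castSucc] at ht'
      rw [show E8Data.tab.cor (239 : ℕ) (Fin.last 7).val = 2 from top8_facts.1] at ht'
      set S := ldot [2, 3, 4, 6, 5, 4, 3] a with hS
      have hsum : (n : ℤ) ∣ (∑ i : Fin 7, E8Data.tab.cor (239 : ℕ) (Fin.castSucc i).val *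
          b' (Fin.castSucc i)) - (S : ℤ) := by
        rw [hS, ldot, show List.zipWith (· * ·) [2, 3, 4, 6, 5, 4, 3] a =
          List.ofFn fun i : Fin 7 => ([2, 3, 4, 6, 5, 4, 3] : List ℕ).getD i.val 0 *
            a.getD i.val 0 from ?_, List.sum_ofFn]
        · push_cast
          rw [← Finset.sum_sub_distrib]
          refine Finset.dvd_sum fun i _ => ?_
          have h := map_range_inj (n := 7) (f := fun j => E8Data.tab.cor 239 j)
            (g := fun j => ((([2, 3, 4, 6, 5, 4, 3] : List ℕ).getD j 0 : ℕ) : ℤ))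
            (top8_facts.2.2.trans (by decide)) i.isLt
          show (n : ℤ) ∣ E8Data.tab.cor 239 i.val * _ - _
          rw [h, ← mul_sub]
          exact (hdiv _ i.isLt).mul_left _
        · refine List.ext_getElem (by simp [hlen]) fun i h1 h2 => ?_
          simp only [List.getElem_zipWith, List.getElem_ofFn]
          rw [List.getD_eq_getElem, List.getD_eq_getElem]
      obtain ⟨h, hh⟩ := hn
      have hlast : natVec a8 (Fin.last 7 : Fin (7 + 1)) =
          (((n - S % n) * ((n + 1) / 2) % n : ℕ) : ℤ) := by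
        show ((a8.getD 7 0 : ℕ) : ℤ) = _
        rw [ha8, ext8, List.getD_append_right _ _ _ _ (by omega), hlen]
        rfl
      show (n : ℤ) ∣ b' _ - natVec a8 (Fin.last 7 : Fin (7 + 1))
      rw [hlast, show (n + 1) / 2 = h + 1 by omega, Int.natCast_mod, Nat.cast_mul,
        Nat.cast_sub (Nat.mod_lt _ hn0).le, Int.natCast_mod]
      refine (Int.modEq_iff_dvd.mp ((Int.mod_modEq _ _).trans ?_))
      rw [Int.modEq_iff_dvd]
      have h1 : (n : ℤ) ∣ (S : ℤ) % n - S := ⟨-((S : ℤ) / n), by rw [Int.emod_def]; ring⟩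
      have hnz : (n : ℤ) = 2 * h + 1 := by exact_mod_cast hh
      obtain ⟨c1, hc1⟩ := ht'
      obtain ⟨c2, hc2⟩ := hsum
      obtain ⟨c3, hc3⟩ := h1
      generalize b' (Fin.last 7 : Fin (7 + 1)) = z at hc1 ⊢
      refine ⟨(c1 - c2 + c3) * (h + 1) - (z + h + 1), ?_⟩
      push_cast
      linear_combination (h + 1 : ℤ) * hc1 - (h + 1 : ℤ) * hc2 + (h + 1 : ℤ) * hc3 + z * hnz
  have hjc : ∀ (lv : ℤ) (c : ℤ), jcnt n b lv c = jcnt n (natVec a8) lv c := by
    intro lv c
    refine Finset.card_equiv (Equiv.sumCongr (Equiv.refl _) σ) fun x => ?_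
    simp only [Finset.mem_filter, Finset.mem_univ, true_and]
    rcases x with i | r
    · rfl
    · show lev r = lv ∧ (n : ℤ) ∣ val b r - c ↔
        lev (σ r) = lv ∧ (n : ℤ) ∣ val (natVec a8) (σ r) - c
      rw [lev_pw L hL, ← hb']
      refine and_congr_right fun _ => dvd_iff_dvd_of_dvd_sub ?_
      simpa using val_congr hcong (σ r)
  have hc := List.all_eq_true.mp hchk a ha
  simp only [Bool.or_eq_true, Bool.not_eq_true', List.all_eq_false] at hc
  rcases hc with (⟨k, hk, hne⟩ | htriv) | hmem
  · exfalso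
    rw [List.mem_range] at hk
    refine hne (beq_iff_eq.mpr ?_)
    rw [← jcnt_natVec hn0 hlen8 (Nat.mod_lt _ hn0), ← jcnt_natVec hn0 hlen8 hk, ← hjc, ← hjc,
      ← hjc, ← hjc]
    have key : ∀ lv : ℤ, lv = 0 ∨ lv = 1 →
        jcnt n b lv ((g * k % n : ℕ)) = jcnt n b lv k := fun lv h => by
      rw [← hinv lv h k]
      refine congrArg Finset.card (Finset.filter_congr fun x _ => and_congr_right fun _ => ?_)
      refine dvd_iff_dvd_of_dvd_sub ⟨((g * k : ℕ) : ℤ) / n, ?_⟩
      rw [Int.natCast_mod, Int.emod_def]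
      ring
    rw [key 0 (Or.inl rfl), key 1 (Or.inr rfl)]
  · left
    intro r
    simp only [List.all_eq_true, beq_iff_eq] at htriv
    rw [← hb']
    have hv : (n : ℤ) ∣ val (natVec a8) (σ r) := by
      set t := σ r
      have : t.val < 240 := t.isLt
      have hmem : ∀ s, s < 120 → ldot (posRoots.getD s []) a8 % n = 0 := fun s hs => by
        refine htriv _ ?_
        rw [List.getD_eq_getElem _ _ (by rw [posRoots_len]; exact hs)]
        exact List.getElem_mem _
      rcases Nat.lt_or_ge t.val 120 with ht | ht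
      · have e : t = ⟨119 - (119 - t.val), by show _ < 240; omega⟩ := Fin.ext (by
          show t.val = 119 - (119 - t.val); omega)
        rw [e, (val_pos_lit hlen8 (s := 119 - t.val) (by omega) (by show _ < 240; omega) _).2,
          dvd_neg, Int.natCast_dvd_natCast]
        exact Nat.dvd_of_mod_eq_zero (hmem _ (by omega))
      · have e : t = ⟨120 + (t.val - 120), by show _ < 240; omega⟩ := Fin.ext (by
          show t.val = 120 + (t.val - 120); omega)
        rw [e, (val_pos_lit hlen8 (s := t.val - 120) (by omega) _ (by show _ < 240; omega)).1,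
          Int.natCast_dvd_natCast]
        exact Nat.dvd_of_mod_eq_zero (hmem _ (by omega))
    have := val_congr hcong (σ r)
    simpa using dvd_add this hv
  · right
    rw [hjc, hjc]
    have := jcnt_natVec (n := n) hn0 hlen8 (k := 0) hn0
    rw [Nat.cast_zero] at this
    rw [this]
    simpa using hmem

end CfsgLib.E7Sections
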